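import Groth.Agent.L18.LPsi.Global

/-!
# Dominance of `r_{L,ψ}`
-/

set_option autoImplicit false

noncomputable section

universe u

open CategoryTheory CategoryTheory.Limits AlgebraicGeometry TopologicalSpace Opposite HomogeneousLocalization
open Groth.L18

namespace Groth.L18.LPsi

section Ring

variable {A σ : Type u} [CommRing A] [SetLike σ A] [AddSubgroupClass σ A] {𝒜 : ℕ → σ} [GradedRing 𝒜]

/-- Standard opens of positive degree form a basis. -/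
theorem exists_basicOpen_le {W : Set (Proj 𝒜)} (hW : IsOpen W) {v : Proj 𝒜} (hv : v ∈ W) :
    ∃ (d : ℕ) (_ : 0 < d) (f : A), f ∈ 𝒜 d ∧ v ∈ Proj.basicOpen 𝒜 f ∧
      (Proj.basicOpen 𝒜 f : Set (Proj 𝒜)) ⊆ W := by
  classical
  obtain ⟨_, ⟨a, rfl⟩, hva, hsub⟩ :=
    (ProjectiveSpectrum.isTopologicalBasis_basic_opens 𝒜).exists_subset_of_mem_open hv hW
  obtain ⟨i, hi⟩ : ∃ i, (DirectSum.decompose 𝒜 a i : A) ∉ v.asHomogeneousIdeal := by
    by_contra hcon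
    push Not at hcon
    refine hva ?_
    rw [← DirectSum.sum_support_decompose 𝒜 a]
    exact Ideal.sum_mem _ fun i _ => hcon i
  obtain ⟨m, hm, g, hg, hgv⟩ := (PConeImm.exists_homogeneous_not_mem (𝒜 := 𝒜)
    (p := v.asHomogeneousIdeal.toIdeal)).mp (Set.not_subset.mp v.not_irrelevant_le)
  refine ⟨i + m, Nat.add_pos_right i hm, (DirectSum.decompose 𝒜 a i : A) * g,
    SetLike.mul_mem_graded (SetLike.coe_mem _) hg, fun h => (v.isPrime.mem_or_mem h).elim hi hgv, ?_⟩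
  intro w hw
  refine hsub fun ha => hw (Ideal.mul_mem_right _ _ ?_)
  exact w.asHomogeneousIdeal.isHomogeneous i ha

theorem basicOpen_eq_empty_iff {f : A} {d : ℕ} (hd : 0 < d) (hf : f ∈ 𝒜 d) :
    (∀ v : Proj 𝒜, f ∈ v.asHomogeneousIdeal) ↔ IsNilpotent f := by
  refine ⟨fun h => ?_, fun ⟨m, hm⟩ v => v.isPrime.mem_of_pow_mem m (by rw [hm]; exact zero_mem _)⟩
  have hsub : Subsingleton (Away 𝒜 f) := by
    refine not_nontrivial_iff_subsingleton.mp fun _ => ?_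
    obtain ⟨q⟩ := (inferInstance : Nonempty (PrimeSpectrum (Away 𝒜 f)))
    exact (Proj.opensRange_awayι 𝒜 f hf hd).le ⟨q, rfl⟩ (h _)
  have h1 := congrArg HomogeneousLocalization.val (Subsingleton.elim (1 : Away 𝒜 f) 0)
  rw [val_one, val_zero, ← map_one (algebraMap A (Localization.Away f)),
    IsLocalization.map_eq_zero_iff (Submonoid.powers f)] at h1
  obtain ⟨⟨_, m, rfl⟩, hm⟩ := h1
  exact ⟨m, by simpa using hm⟩

end Ring

variable {Y X P PL : Scheme.{u}} {q : X ⟶ Y} {L : X.Modules} {𝒮 : RelProj.QCGrAlg Y} {𝒮L : RelProj.QCGrAlg X}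
  {j : L ⟶ 𝒮L.toModule} (u : RelProj.QGrHom q 𝒮 𝒮L) {hY : IsAffineOpen (⊤ : Y.Opens)}
  [Coh.IsQCoh L] (hL : PicF.IsInvertible L) (hj : RelProj.IsGrSymAlg L 𝒮L j)
  {p : P ⟶ Y} {chart : ∀ (U : Y.Opens) (hU : IsAffineOpen U), (((p ⁻¹ᵁ U : P.Opens) : Scheme.{u}) ≅ Proj (𝒮.deg U hU))}
  (hP : RelProj.IsRelProj 𝒮 p chart)
  {pL : PL ⟶ X} {chartL : ∀ (U : X.Opens) (hU : IsAffineOpen U), (((pL ⁻¹ᵁ U : PL.Opens) : Scheme.{u}) ≅ Proj (𝒮L.deg U hU))}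
  (hPL : RelProj.IsRelProj 𝒮L pL chartL)

include hL hj hPL in
theorem nv_eq_empty_iff {n : ℕ} (hn : 0 < n) {s : 𝒮.presheaf.obj (op ⊤)} (hs : s ∈ 𝒮.deg ⊤ hY n) :
    (∀ x : X, x ∉ nv u n s) ↔
      ∀ x : X, ∃ (V : X.Opens) (_ : IsAffineOpen V), x ∈ V ∧
        IsNilpotent ((u.appLE ⊤ V (le_top.trans (Scheme.Hom.preimage_top q).ge)).hom s) := by
  constructor
  · intro h x
    obtain ⟨⟨V, hV⟩, hx⟩ := Opens.mem_iSup.mp ((iSup_affineOpens_eq_top X).ge (trivial : x ∈ (⊤ : X.Opens)))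
    refine ⟨V, hV, hx, (basicOpen_eq_empty_iff (𝒜 := 𝒮L.deg V hV) hn (tOf_mem u hs ⟨V, hV⟩)).mp fun v => ?_⟩
    by_contra hv
    exact h _ ((emb_mem_nv_iff u hL hj hPL hs hV v).mpr hv)
  · intro h x hx
    obtain ⟨V, hV, hxV, hnil⟩ := h x
    haveI := SymInv.isIso_relProj hj hL hPL
    obtain ⟨ξ, rfl⟩ : ∃ ξ, pL.base ξ = x := ⟨(inv pL).base x, by rw [← Scheme.Hom.comp_apply, IsIso.inv_hom_id]; rfl⟩
    obtain ⟨v, rfl⟩ := QMap.exists_point (chart := chartL) V hV ξ hxV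
    obtain ⟨m, hm⟩ := hnil
    exact (emb_mem_nv_iff u hL hj hPL hs hV v).mp hx
      (v.isPrime.mem_of_pow_mem m (by rw [RelProj.QGrHom.gradedAt_apply, hm]; exact zero_mem _))

include hL hj hP hPL hY in
theorem isDominant_iff {r : ((RelProj.domQ u pL chartL : PL.Opens) : Scheme.{u}) ⟶ P}
    (hr : RelProj.IsProjQMapOn u p chart pL chartL (RelProj.domQ u pL chartL) r) :
    IsDominant r ↔
      ∀ (n : ℕ), 0 < n → ∀ s ∈ 𝒮.deg ⊤ hY n,
        (∀ x : X, ∃ (V : X.Opens) (_ : IsAffineOpen V), x ∈ V ∧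
          IsNilpotent ((u.appLE ⊤ V (le_top.trans (Scheme.Hom.preimage_top q).ge)).hom s)) → IsNilpotent s := by
  constructor
  · intro hd n hn s hs hloc
    refine (basicOpen_eq_empty_iff (𝒜 := 𝒮.deg ⊤ hY) hn hs).mp fun c => ?_
    by_contra hc
    let O := (RelProj.emb p chart ⊤ hY) ''ᵁ Proj.basicOpen (𝒮.deg ⊤ hY) s
    obtain ⟨x, hx⟩ := hd.denseRange.exists_mem_open O.isOpen ⟨_, c, hc, rfl⟩
    exact (nv_eq_empty_iff u hL hj hPL hn hs).mpr hloc _ ((mem_preimage_basicOpen u hL hj hP hPL hr hn hs x).mp hx)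
  · intro h
    refine ⟨dense_iff_inter_open.mpr fun O hO hne => ?_⟩
    obtain ⟨y, hy⟩ := hne
    obtain ⟨c, rfl⟩ := QMap.exists_point (chart := chart) ⊤ hY y trivial
    obtain ⟨n, hn, s, hs, hcs, hsub⟩ := exists_basicOpen_le (hO.preimage (RelProj.emb p chart ⊤ hY).continuous) hy
    by_contra hcon
    refine hcs ((basicOpen_eq_empty_iff (𝒜 := 𝒮.deg ⊤ hY) hn hs).mpr (h n hn s hs
      ((nv_eq_empty_iff u hL hj hPL hn hs).mp fun x hx => hcon ?_)) c)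
    haveI := SymInv.isIso_relProj hj hL hPL
    obtain ⟨ξ, rfl⟩ : ∃ ξ, pL.base ξ = x := ⟨(inv pL).base x, by rw [← Scheme.Hom.comp_apply, IsIso.inv_hom_id]; rfl⟩
    have hξ := preimage_nv_le_domQ u hL hj hPL hn hs hx
    obtain ⟨w, hw, hwe⟩ := (mem_preimage_basicOpen u hL hj hP hPL hr hn hs ⟨ξ, hξ⟩).mpr hx
    exact ⟨_, hwe ▸ hsub hw, ⟨ξ, hξ⟩, rfl⟩

end Groth.L18.LPsi
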