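import Groth.Agent.L18.LPsi.Immersion
import Groth.Agent.L18.QMap.CompApps

/-!
# `r_{L,ψ}`: immersion, open immersion, closed immersion
-/

set_option autoImplicit false

noncomputable section

universe u

open CategoryTheory CategoryTheory.Limits AlgebraicGeometry TopologicalSpace Opposite HomogeneousLocalization
open Groth.L18
open Groth.L18.QMap (isPullback_of_mono)

namespace Groth.L18.LPsi

section general

variable {D P X : Scheme.{u}} {r : D ⟶ P} {N : X.Opens} {R : CommRingCat.{u}} {T : (N : Scheme.{u}) ⟶ D}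
  {g : (N : Scheme.{u}) ⟶ Spec R} {a : Spec R ⟶ P} [IsOpenImmersion a]

theorem map_restrict (hpb : IsPullback T g r a) (Q : MorphismProperty Scheme.{u}) [Q.RespectsIso] (h : Q g) :
    Q (r ∣_ a.opensRange) := by
  refine (Q.arrow_mk_iso_iff (morphismRestrictOpensRange r a)).mpr ?_
  refine (Q.arrow_mk_iso_iff (Arrow.isoMk' (pullback.snd r a) g hpb.isoPullback.symm (Iso.refl _) ?_)).mpr h
  simp

theorem isClosedImmersion_of_isImmersion [IsImmersion r] (hpb : IsPullback T g r a)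
    (h : a.opensRange ≤ r.coborderRange) : IsClosedImmersion g := by
  let a' : Spec R ⟶ (r.coborderRange : Scheme.{u}) :=
    IsOpenImmersion.lift r.coborderRange.ι a (by rw [Scheme.Opens.range_ι]; rintro _ ⟨x, rfl⟩; exact h ⟨x, rfl⟩)
  have hT : T ≫ r.liftCoborder = g ≫ a' := by
    rw [← cancel_mono r.coborderRange.ι]
    simp [a', hpb.w]
  have hcond : ∀ (c : PullbackCone r.liftCoborder a'), c.fst ≫ r = c.snd ≫ a := fun c => by
    have := congrArg (· ≫ r.coborderRange.ι) c.condition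
    simpa [a'] using this
  have hpb' : IsPullback T g r.liftCoborder a' :=
    IsPullback.of_isLimit' ⟨hT⟩ (PullbackCone.IsLimit.mk _ (fun c => hpb.lift c.fst c.snd (hcond c))
      (fun c => hpb.lift_fst _ _ _) (fun c => hpb.lift_snd _ _ _)
      (fun c m h1 h2 => hpb.hom_ext (h1.trans (hpb.lift_fst _ _ _).symm) (h2.trans (hpb.lift_snd _ _ _).symm)))
  exact MorphismProperty.of_isPullback hpb' inferInstance

theorem isClosedImmersion_iff {A : CommRingCat.{u}} (hN : IsAffineOpen N) (g : (N : Scheme.{u}) ⟶ Spec A) :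
    IsClosedImmersion g ↔ Function.Surjective (toRingMap g).hom := by
  have e : hN.isoSpec.inv ≫ g = Spec.map (toRingMap g) := by
    have h := lift_comp_eq_SpecMap g hN le_rfl
    rw [show X.homOfLE (le_refl N) = 𝟙 _ from Scheme.homOfLE_rfl _ _, Category.id_comp] at h
    rw [h]
    refine congrArg Spec.map ?_
    show toRingMap g ≫ X.presheaf.map (𝟙 (op N)) = _
    rw [CategoryTheory.Functor.map_id, Category.comp_id]
  rw [← MorphismProperty.cancel_left_of_respectsIso @IsClosedImmersion hN.isoSpec.inv g, e]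
  refine ⟨fun h => ?_, IsClosedImmersion.spec_of_surjective _⟩
  intro y
  obtain ⟨x, hx⟩ := (IsClosedImmersion.isAffine_surjective_of_isAffine (f := Spec.map (toRingMap g))).2
    ((Scheme.ΓSpecIso _).inv.hom y)
  refine ⟨(Scheme.ΓSpecIso _).hom.hom x, ?_⟩
  have := ConcreteCategory.congr_hom (Scheme.ΓSpecIso_naturality (toRingMap g)) x
  simp only [CommRingCat.comp_apply] at this
  rw [← this, hx, ← CommRingCat.comp_apply, Iso.inv_hom_id]
  rfl

theorem isIso_iff {A : CommRingCat.{u}} (hN : IsAffineOpen N) (g : (N : Scheme.{u}) ⟶ Spec A) :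
    IsIso g ↔ Function.Bijective (toRingMap g).hom := by
  have e : hN.isoSpec.inv ≫ g = Spec.map (toRingMap g) := by
    have h := lift_comp_eq_SpecMap g hN le_rfl
    rw [show X.homOfLE (le_refl N) = 𝟙 _ from Scheme.homOfLE_rfl _ _, Category.id_comp] at h
    rw [h]
    refine congrArg Spec.map ?_
    show toRingMap g ≫ X.presheaf.map (𝟙 (op N)) = _
    rw [CategoryTheory.Functor.map_id, Category.comp_id]
  rw [← isIso_comp_left_iff hN.isoSpec.inv g, e]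
  refine ⟨fun h => ?_, fun h => ?_⟩
  · haveI : IsIso (Scheme.Spec.map (toRingMap g).op) := h
    haveI : IsIso (toRingMap g).op := isIso_of_reflects_iso _ Scheme.Spec
    haveI : IsIso (toRingMap g) := isIso_of_op _
    exact ConcreteCategory.bijective_of_isIso _
  · haveI : IsIso (toRingMap g) := (ConcreteCategory.isIso_iff_bijective _).mpr h
    infer_instance

theorem isAffineOpen_of {A : CommRingCat.{u}} (g : (N : Scheme.{u}) ⟶ Spec A) [IsAffineHom g] : IsAffineOpen N :=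
  isAffine_of_isAffineHom g

end general


open Groth.L18.Frame (rs ro IsFrame)

variable {Y X P PL : Scheme.{u}} {q : X ⟶ Y} {L : X.Modules} {𝒮 : RelProj.QCGrAlg Y} {𝒮L : RelProj.QCGrAlg X}
  {j : L ⟶ 𝒮L.toModule} (u : RelProj.QGrHom q 𝒮 𝒮L) {hY : IsAffineOpen (⊤ : Y.Opens)}
  [Coh.IsQCoh L] (hL : PicF.IsInvertible L) (hj : RelProj.IsGrSymAlg L 𝒮L j)
  {p : P ⟶ Y} {chart : ∀ (U : Y.Opens) (hU : IsAffineOpen U), (((p ⁻¹ᵁ U : P.Opens) : Scheme.{u}) ≅ Proj (𝒮.deg U hU))}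
  (hP : RelProj.IsRelProj 𝒮 p chart)
  {pL : PL ⟶ X} {chartL : ∀ (U : X.Opens) (hU : IsAffineOpen U), (((pL ⁻¹ᵁ U : PL.Opens) : Scheme.{u}) ≅ Proj (𝒮L.deg U hU))}
  (hPL : RelProj.IsRelProj 𝒮L pL chartL)
  {r : ((RelProj.domQ u pL chartL : PL.Opens) : Scheme.{u}) ⟶ P}
  (hr : RelProj.IsProjQMapOn u p chart pL chartL (RelProj.domQ u pL chartL) r)

/-- Every function on `X_s` is `u(s') / f^m`. -/
def CondSurj (hY : IsAffineOpen (⊤ : Y.Opens)) (d : ℕ) (s : 𝒮.presheaf.obj (op ⊤)) (N : X.Opens) : Prop :=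
  ∀ t : X.presheaf.obj (op N), ∃ (m : ℕ) (_ : 0 < m) (s' : 𝒮.presheaf.obj (op ⊤)) (_ : s' ∈ 𝒮.deg ⊤ hY (m * d)),
    (𝒮L.str.app (op N)).hom t * fOn u N s ^ m = fOn u N s'

/-- An element killed on `X_s` is killed by a power of `s`. -/
def CondInj (hY : IsAffineOpen (⊤ : Y.Opens)) (d : ℕ) (s : 𝒮.presheaf.obj (op ⊤)) (N : X.Opens) : Prop :=
  ∀ m : ℕ, 0 < m → ∀ s' ∈ 𝒮.deg ⊤ hY (m * d), fOn u N s' = 0 → ∃ k : ℕ, 0 < k ∧ s ^ k * s' = 0

section fixed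

variable {d : ℕ} (hd : 0 < d) {s : 𝒮.presheaf.obj (op ⊤)} (hs : s ∈ 𝒮.deg ⊤ hY d)
  {T : (nv u d s : Scheme.{u}) ⟶ ((RelProj.domQ u pL chartL : PL.Opens) : Scheme.{u})}
  {g : (nv u d s : Scheme.{u}) ⟶ Spec (CommRingCat.of (Away (𝒮.deg ⊤ hY) s))}
  (hg : T ≫ r = g ≫ QMap.aEmb p chart ⊤ hY hd s hs)
  (hT : T ≫ (RelProj.domQ u pL chartL).ι ≫ pL = (nv u d s).ι)

include hL hj hP hPL hr hg hT

theorem surjective_iff : Function.Surjective (toRingMap g).hom ↔ CondSurj u hY d s (nv u d s) := by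
  constructor
  · intro hsur t
    obtain ⟨z, rfl⟩ := hsur t
    obtain ⟨n, s', hs', rfl⟩ := Away.mk_surjective (𝒮.deg ⊤ hY) hs z
    refine ⟨n + 1, n.succ_pos, s * s', ?_, ?_⟩
    · have := SetLike.mul_mem_graded hs hs'
      rwa [smul_eq_mul, show d + n * d = (n + 1) * d by ring] at this
    · rw [pow_succ, ← mul_assoc, toRingMap_spec u hL hj hP hPL hr hd hs hg hT n s' hs', map_mul, mul_comm]
  · intro hc t
    obtain ⟨m, -, s', hs', he⟩ := hc t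
    exact ⟨Away.mk (𝒮.deg ⊤ hY) hs m s' (by rwa [smul_eq_mul]), fun_ext u hL hj hPL hs (m := m)
      ((toRingMap_spec u hL hj hP hPL hr hd hs hg hT m s' _).trans he.symm)⟩

theorem injective_iff : Function.Injective (toRingMap g).hom ↔ CondInj u hY d s (nv u d s) := by
  constructor
  · intro hinj m _ s' hs' h0
    have hz : Away.mk (𝒮.deg ⊤ hY) hs m s' (by rwa [smul_eq_mul]) = 0 := by
      refine hinj (fun_ext u hL hj hPL hs (m := m) ?_)
      rw [toRingMap_spec u hL hj hP hPL hr hd hs hg hT m s' _, h0, map_zero, map_zero, zero_mul]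
    have h2 := congrArg HomogeneousLocalization.val hz
    rw [Away.val_mk, val_zero, Localization.mk_eq_mk', IsLocalization.mk'_eq_zero_iff] at h2
    obtain ⟨⟨_, k, rfl⟩, hk⟩ := h2
    exact ⟨k + 1, k.succ_pos, by rw [pow_succ', mul_assoc, hk, mul_zero]⟩
  · intro hc
    refine (injective_iff_map_eq_zero _).mpr fun z hz => ?_
    obtain ⟨n, s', hs', rfl⟩ := Away.mk_surjective (𝒮.deg ⊤ hY) hs z
    have h0 : fOn u (nv u d s) s' = 0 := by
      rw [← toRingMap_spec u hL hj hP hPL hr hd hs hg hT n s' hs', hz, map_zero, zero_mul]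
    obtain ⟨k, -, hk⟩ := hc (n + 1) n.succ_pos (s * s')
      (by have := SetLike.mul_mem_graded hs hs'
          rwa [smul_eq_mul, show d + n * d = (n + 1) * d by ring] at this)
      (by rw [map_mul, h0, mul_zero])
    refine val_injective _ ?_
    rw [Away.val_mk, val_zero, Localization.mk_eq_mk', IsLocalization.mk'_eq_zero_iff]
    exact ⟨⟨s ^ (k + 1), k + 1, rfl⟩, show s ^ (k + 1) * s' = 0 by rw [pow_succ, mul_assoc]; exact hk⟩

end fixed

/-- The image in `P` of a standard open of `Proj 𝒮(⊤)`. -/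
abbrev stdOpen (p : P ⟶ Y)
    (chart : ∀ (U : Y.Opens) (hU : IsAffineOpen U), (((p ⁻¹ᵁ U : P.Opens) : Scheme.{u}) ≅ Proj (𝒮.deg U hU)))
    {d : ℕ} (hd : 0 < d) {s : 𝒮.presheaf.obj (op ⊤)} (hs : s ∈ 𝒮.deg ⊤ hY d) : P.Opens :=
  (QMap.aEmb p chart ⊤ hY hd s hs).opensRange

theorem exists_stdOpen_le (W : P.Opens) (y : P) (hy : y ∈ W) :
    ∃ (d : ℕ) (hd : 0 < d) (s : 𝒮.presheaf.obj (op ⊤)) (hs : s ∈ 𝒮.deg ⊤ hY d),
      y ∈ stdOpen p chart hd hs ∧ stdOpen p chart hd hs ≤ W := by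
  obtain ⟨v, rfl⟩ := QMap.exists_point (chart := chart) ⊤ hY y trivial
  obtain ⟨d, hd, t, ht, hvt, hsub⟩ := exists_basicOpen_le (W.2.preimage (RelProj.emb p chart ⊤ hY).continuous) hy
  refine ⟨d, hd, t, ht, (QMap.mem_range_aEmb (p := p) (chart := chart) ⊤ hY hd t ht v).mpr hvt, ?_⟩
  rintro _ ⟨x, rfl⟩
  exact hsub ((Proj.opensRange_awayι (𝒮.deg ⊤ hY) t ht hd).le ⟨x, rfl⟩)

include hL hj hP hPL hr

theorem cond_of_isImmersion [IsImmersion r] {d : ℕ} (hd : 0 < d) {s : 𝒮.presheaf.obj (op ⊤)}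
    (hs : s ∈ 𝒮.deg ⊤ hY d) (h : stdOpen p chart hd hs ≤ r.coborderRange) :
    IsAffineOpen (nv u d s) ∧ CondSurj u hY d s (nv u d s) := by
  obtain ⟨T, g, hpb, hT⟩ := exists_restrict u hL hj hP hPL hr hd hs
  haveI := isClosedImmersion_of_isImmersion hpb h
  have hN := isAffineOpen_of g
  exact ⟨hN, (surjective_iff u hL hj hP hPL hr hd hs hpb.w hT).mp ((isClosedImmersion_iff hN g).mp inferInstance)⟩

theorem cond_of_isOpenImmersion [IsOpenImmersion r] {d : ℕ} (hd : 0 < d) {s : 𝒮.presheaf.obj (op ⊤)}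
    (hs : s ∈ 𝒮.deg ⊤ hY d) (h : stdOpen p chart hd hs ≤ r.opensRange) :
    IsAffineOpen (nv u d s) ∧ CondSurj u hY d s (nv u d s) ∧ CondInj u hY d s (nv u d s) := by
  obtain ⟨T, g, hpb, hT⟩ := exists_restrict u hL hj hP hPL hr hd hs
  haveI : IsOpenImmersion g := MorphismProperty.of_isPullback hpb inferInstance
  haveI : Surjective g := ⟨fun y => by
    obtain ⟨x, hx⟩ := h (show (QMap.aEmb p chart ⊤ hY hd s hs).base y ∈ stdOpen p chart hd hs from ⟨y, rfl⟩)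
    obtain ⟨z, -, hz⟩ := Scheme.exists_preimage_of_isPullback hpb x y hx
    exact ⟨z, hz⟩⟩
  haveI hiso : IsIso g := isIso_of_isOpenImmersion_of_opensRange_eq_top g
    (top_le_iff.mp fun y _ => g.surjective y)
  have hN := isAffineOpen_of g
  have hb := (isIso_iff hN g).mp hiso
  exact ⟨hN, (surjective_iff u hL hj hP hPL hr hd hs hpb.w hT).mp hb.2,
    (injective_iff u hL hj hP hPL hr hd hs hpb.w hT).mp hb.1⟩

theorem closed_restrict {d : ℕ} (hd : 0 < d) {s : 𝒮.presheaf.obj (op ⊤)} (hs : s ∈ 𝒮.deg ⊤ hY d)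
    (hN : IsAffineOpen (nv u d s)) (h : CondSurj u hY d s (nv u d s)) :
    IsClosedImmersion (r ∣_ stdOpen p chart hd hs) ∧
      (CondInj u hY d s (nv u d s) → IsIso (r ∣_ stdOpen p chart hd hs)) := by
  obtain ⟨T, g, hpb, hT⟩ := exists_restrict u hL hj hP hPL hr hd hs
  have hsur := (surjective_iff u hL hj hP hPL hr hd hs hpb.w hT).mpr h
  exact ⟨map_restrict hpb @IsClosedImmersion ((isClosedImmersion_iff hN g).mpr hsur), fun hi =>
    map_restrict hpb (MorphismProperty.isomorphisms Scheme.{u})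
      ((isIso_iff hN g).mpr ⟨(injective_iff u hL hj hP hPL hr hd hs hpb.w hT).mpr hi, hsur⟩)⟩

theorem property_of_cover {ι : Type u} (n : ι → ℕ) (s : ι → 𝒮.presheaf.obj (op ⊤))
    (hns : ∀ a, 0 < n a ∧ s a ∈ 𝒮.deg ⊤ hY (n a)) (hcov : (⨆ a, nv u (n a) (s a)) = ⊤)
    (Q : MorphismProperty Scheme.{u}) [IsZariskiLocalAtTarget Q]
    (hQ : ∀ a, Q (r ∣_ stdOpen p chart (hns a).1 (hns a).2)) :
    RelProj.domQ u pL chartL = ⊤ ∧
      ∃ (W : P.Opens), W = (⨆ a, stdOpen p chart (hns a).1 (hns a).2) ∧ Q (r ∣_ W) ∧ r ⁻¹ᵁ W = ⊤ := by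
  have htop : RelProj.domQ u pL chartL = ⊤ := top_le_iff.mp fun ξ _ => by
    obtain ⟨a, ha⟩ := Opens.mem_iSup.mp (hcov.ge (trivial : pL.base ξ ∈ (⊤ : X.Opens)))
    exact preimage_nv_le_domQ u hL hj hPL (hns a).1 (hns a).2 ha
  refine ⟨htop, _, rfl, ?_, top_le_iff.mp fun x _ => ?_⟩
  · refine IsZariskiLocalAtTarget.of_iSup_eq_top
      (fun a => (⨆ a, stdOpen p chart (hns a).1 (hns a).2).ι ⁻¹ᵁ stdOpen p chart (hns a).1 (hns a).2) ?_ fun a => ?_
    · rw [← Scheme.Hom.preimage_iSup, Scheme.Opens.ι_preimage_self]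
    · refine (Q.arrow_mk_iso_iff (morphismRestrictRestrict r _ _ ≪≫ morphismRestrictEq r ?_)).mpr (hQ a)
      rw [Scheme.Hom.image_preimage_eq_opensRange_inf, Scheme.Opens.opensRange_ι]
      exact inf_eq_right.mpr (le_iSup (fun a => stdOpen p chart (hns a).1 (hns a).2) a)
  · obtain ⟨a, ha⟩ := Opens.mem_iSup.mp (hcov.ge (trivial : pL.base x.1 ∈ (⊤ : X.Opens)))
    refine Opens.mem_iSup.mpr ⟨a, ?_⟩
    obtain ⟨v, hv, he⟩ := (mem_preimage_basicOpen u hL hj hP hPL hr (hns a).1 (hns a).2 x).mpr ha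
    rw [← he]
    exact (QMap.mem_range_aEmb (p := p) (chart := chart) ⊤ hY (hns a).1 _ (hns a).2 v).mpr hv

omit hL hj hP hPL hr in
theorem eq_comp_of_preimage_eq_top {D : Scheme.{u}} {r : D ⟶ P} {W : P.Opens} (h : r ⁻¹ᵁ W = ⊤) :
    ∃ e : D ⟶ (r ⁻¹ᵁ W : Scheme.{u}), IsIso e ∧ r = e ≫ (r ∣_ W) ≫ W.ι := by
  haveI := QMap.isIso_ι_of_eq_top _ h
  exact ⟨inv (r ⁻¹ᵁ W).ι, inferInstance, by rw [morphismRestrict_ι, IsIso.inv_hom_id_assoc]⟩

omit hP hr in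
theorem exists_nv_mem_of_stdOpen (htop : RelProj.domQ u pL chartL = ⊤) (W : P.Opens)
    (hW : ∀ x, r.base x ∈ W) (hmem : ∀ (d : ℕ) (hd : 0 < d) (s : 𝒮.presheaf.obj (op ⊤)) (hs : s ∈ 𝒮.deg ⊤ hY d)
      (x : ((RelProj.domQ u pL chartL : PL.Opens) : Scheme.{u})),
      r.base x ∈ stdOpen p chart hd hs → pL.base x.1 ∈ nv u d s) (x : X) :
    ∃ (d : ℕ) (hd : 0 < d) (s : 𝒮.presheaf.obj (op ⊤)) (hs : s ∈ 𝒮.deg ⊤ hY d),
      x ∈ nv u d s ∧ stdOpen p chart hd hs ≤ W := by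
  haveI := SymInv.isIso_relProj hj hL hPL
  obtain ⟨ξ, rfl⟩ : ∃ ξ, pL.base ξ = x := ⟨(inv pL).base x, by rw [← Scheme.Hom.comp_apply, IsIso.inv_hom_id]; rfl⟩
  obtain ⟨d, hd, s, hs, hy, hle⟩ :=
    exists_stdOpen_le (hY := hY) (chart := chart) W _ (hW ⟨ξ, htop.ge trivial⟩)
  exact ⟨d, hd, s, hs, hmem d hd s hs _ hy, hle⟩

theorem mem_nv_of_mem_stdOpen (d : ℕ) (hd : 0 < d) (s : 𝒮.presheaf.obj (op ⊤)) (hs : s ∈ 𝒮.deg ⊤ hY d)
    (x : ((RelProj.domQ u pL chartL : PL.Opens) : Scheme.{u})) (h : r.base x ∈ stdOpen p chart hd hs) :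
    pL.base x.1 ∈ nv u d s := by
  refine (mem_preimage_basicOpen u hL hj hP hPL hr hd hs x).mp ?_
  obtain ⟨w, hw⟩ := h
  exact ⟨_, (Proj.opensRange_awayι (𝒮.deg ⊤ hY) s hs hd).le ⟨w, rfl⟩, hw⟩

variable (hY)

theorem isImmersion_iff :
    (RelProj.domQ u pL chartL = ⊤ ∧ IsImmersion r) ↔
      ∃ (ι : Type u) (n : ι → ℕ) (s : ι → 𝒮.presheaf.obj (op ⊤)) (XT : ι → X.Opens),
        (∀ a, 0 < n a ∧ s a ∈ 𝒮.deg ⊤ hY (n a)) ∧ (∀ a, XT a = nv u (n a) (s a)) ∧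
        (⨆ a, XT a) = ⊤ ∧ (∀ a, IsAffineOpen (XT a)) ∧ ∀ a, CondSurj u hY (n a) (s a) (XT a) := by
  constructor
  · rintro ⟨htop, himm⟩
    have hW : ∀ x, r.base x ∈ r.coborderRange := fun x => subset_coborder ⟨x, rfl⟩
    refine ⟨{ds : ℕ × (𝒮.presheaf.obj (op ⊤) : Type u) // ∃ (hd : 0 < ds.1) (hs : ds.2 ∈ 𝒮.deg ⊤ hY ds.1),
        stdOpen p chart hd hs ≤ r.coborderRange}, fun a => a.1.1, fun a => a.1.2, fun a => nv u a.1.1 a.1.2,
      fun a => ⟨a.2.1, a.2.2.1⟩, fun _ => rfl, top_le_iff.mp fun x _ => ?_,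
      fun a => (cond_of_isImmersion u hL hj hP hPL hr a.2.1 a.2.2.1 a.2.2.2).1,
      fun a => (cond_of_isImmersion u hL hj hP hPL hr a.2.1 a.2.2.1 a.2.2.2).2⟩
    obtain ⟨d, hd, s, hs, hx, hle⟩ := exists_nv_mem_of_stdOpen u hL hj hPL htop _ hW
      (mem_nv_of_mem_stdOpen u hL hj hP hPL hr) x
    exact Opens.mem_iSup.mpr ⟨⟨(d, s), hd, hs, hle⟩, hx⟩
  · rintro ⟨ι, n, s, XT, hns, hXT, hcov, haff, hsur⟩
    obtain rfl : XT = fun a => nv u (n a) (s a) := funext hXT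
    obtain ⟨htop, W, -, hQ, hpre⟩ := property_of_cover u hL hj hP hPL hr n s hns hcov @IsClosedImmersion
      fun a => (closed_restrict u hL hj hP hPL hr (hns a).1 (hns a).2 (haff a) (hsur a)).1
    obtain ⟨e, he, hre⟩ := eq_comp_of_preimage_eq_top hpre
    refine ⟨htop, ?_⟩
    rw [hre]
    infer_instance

theorem isOpenImmersion_iff :
    (RelProj.domQ u pL chartL = ⊤ ∧ IsOpenImmersion r) ↔
      ∃ (ι : Type u) (n : ι → ℕ) (s : ι → 𝒮.presheaf.obj (op ⊤)) (XT : ι → X.Opens),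
        (∀ a, 0 < n a ∧ s a ∈ 𝒮.deg ⊤ hY (n a)) ∧ (∀ a, XT a = nv u (n a) (s a)) ∧
        (⨆ a, XT a) = ⊤ ∧ (∀ a, IsAffineOpen (XT a)) ∧ (∀ a, CondSurj u hY (n a) (s a) (XT a)) ∧
        ∀ a, CondInj u hY (n a) (s a) (XT a) := by
  constructor
  · rintro ⟨htop, himm⟩
    have hW : ∀ x, r.base x ∈ r.opensRange := fun x => ⟨x, rfl⟩
    refine ⟨{ds : ℕ × (𝒮.presheaf.obj (op ⊤) : Type u) // ∃ (hd : 0 < ds.1) (hs : ds.2 ∈ 𝒮.deg ⊤ hY ds.1),
        stdOpen p chart hd hs ≤ r.opensRange}, fun a => a.1.1, fun a => a.1.2, fun a => nv u a.1.1 a.1.2,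
      fun a => ⟨a.2.1, a.2.2.1⟩, fun _ => rfl, top_le_iff.mp fun x _ => ?_,
      fun a => (cond_of_isOpenImmersion u hL hj hP hPL hr a.2.1 a.2.2.1 a.2.2.2).1,
      fun a => (cond_of_isOpenImmersion u hL hj hP hPL hr a.2.1 a.2.2.1 a.2.2.2).2.1,
      fun a => (cond_of_isOpenImmersion u hL hj hP hPL hr a.2.1 a.2.2.1 a.2.2.2).2.2⟩
    obtain ⟨d, hd, s, hs, hx, hle⟩ := exists_nv_mem_of_stdOpen u hL hj hPL htop _ hW
      (mem_nv_of_mem_stdOpen u hL hj hP hPL hr) x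
    exact Opens.mem_iSup.mpr ⟨⟨(d, s), hd, hs, hle⟩, hx⟩
  · rintro ⟨ι, n, s, XT, hns, hXT, hcov, haff, hsur, hinj⟩
    obtain rfl : XT = fun a => nv u (n a) (s a) := funext hXT
    obtain ⟨htop, W, -, hQ, hpre⟩ := property_of_cover u hL hj hP hPL hr n s hns hcov (MorphismProperty.isomorphisms Scheme.{u})
      fun a => (closed_restrict u hL hj hP hPL hr (hns a).1 (hns a).2 (haff a) (hsur a)).2 (hinj a)
    obtain ⟨e, he, hre⟩ := eq_comp_of_preimage_eq_top hpre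
    haveI : IsIso (r ∣_ W) := hQ
    refine ⟨htop, ?_⟩
    rw [hre]
    infer_instance

theorem isClosedImmersion_iff' :
    (RelProj.domQ u pL chartL = ⊤ ∧ IsClosedImmersion r) ↔
      ∃ (ι : Type u) (n : ι → ℕ) (s : ι → 𝒮.presheaf.obj (op ⊤)) (XT : ι → X.Opens),
        (∀ a, 0 < n a ∧ s a ∈ 𝒮.deg ⊤ hY (n a)) ∧ (∀ a, XT a = nv u (n a) (s a)) ∧
        (⨆ a, XT a) = ⊤ ∧ (∀ a, IsAffineOpen (XT a)) ∧ (∀ a, CondSurj u hY (n a) (s a) (XT a)) ∧
        (⨆ a, Proj.basicOpen (𝒮.deg ⊤ hY) (s a)) = ⊤ := by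
  constructor
  · rintro ⟨htop, himm⟩
    have hall : r.coborderRange = ⊤ := by
      ext1
      show coborder (Set.range r.base) = Set.univ
      exact coborder_eq_univ_iff.mpr r.isClosedEmbedding.isClosed_range
    refine ⟨{ds : ℕ × (𝒮.presheaf.obj (op ⊤) : Type u) // 0 < ds.1 ∧ ds.2 ∈ 𝒮.deg ⊤ hY ds.1},
      fun a => a.1.1, fun a => a.1.2, fun a => nv u a.1.1 a.1.2,
      fun a => a.2, fun _ => rfl, top_le_iff.mp fun x _ => ?_,
      fun a => (cond_of_isImmersion u hL hj hP hPL hr a.2.1 a.2.2 (hall ▸ le_top)).1,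
      fun a => (cond_of_isImmersion u hL hj hP hPL hr a.2.1 a.2.2 (hall ▸ le_top)).2,
      top_le_iff.mp fun v _ => ?_⟩
    · obtain ⟨d, hd, s, hs, hx, -⟩ := exists_nv_mem_of_stdOpen u hL hj hPL htop ⊤ (fun _ => trivial)
        (mem_nv_of_mem_stdOpen u hL hj hP hPL hr) x
      exact Opens.mem_iSup.mpr ⟨⟨(d, s), hd, hs⟩, hx⟩
    · obtain ⟨d, hd, s, hs, hsv⟩ := (PConeImm.exists_homogeneous_not_mem (𝒜 := 𝒮.deg ⊤ hY)
        (p := v.asHomogeneousIdeal.toIdeal)).mp (Set.not_subset.mp v.not_irrelevant_le)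
      exact Opens.mem_iSup.mpr ⟨⟨(d, s), hd, hs⟩, hsv⟩
  · rintro ⟨ι, n, s, XT, hns, hXT, hcov, haff, hsur, hbas⟩
    obtain rfl : XT = fun a => nv u (n a) (s a) := funext hXT
    obtain ⟨htop, W, hW, hQ, hpre⟩ := property_of_cover u hL hj hP hPL hr n s hns hcov @IsClosedImmersion
      fun a => (closed_restrict u hL hj hP hPL hr (hns a).1 (hns a).2 (haff a) (hsur a)).1
    have hWtop : W = ⊤ := top_le_iff.mp fun y _ => by
      obtain ⟨v, rfl⟩ := QMap.exists_point (chart := chart) ⊤ hY y trivial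
      obtain ⟨a, ha⟩ := Opens.mem_iSup.mp (hbas.ge (trivial : v ∈ (⊤ : (Proj (𝒮.deg ⊤ hY)).Opens)))
      rw [hW]
      exact Opens.mem_iSup.mpr ⟨a, (QMap.mem_range_aEmb (p := p) (chart := chart) ⊤ hY (hns a).1 _ (hns a).2 v).mpr ha⟩
    obtain ⟨e, he, hre⟩ := eq_comp_of_preimage_eq_top hpre
    haveI := QMap.isIso_ι_of_eq_top _ hWtop
    refine ⟨htop, ?_⟩
    rw [hre]
    infer_instance

end Groth.L18.LPsi
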