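import Groth.Agent.L18.LPsi.ImmersionCrit
import Mathlib.AlgebraicGeometry.Morphisms.FiniteType

/-!
# `r_{L,ψ}` and filtered colimits of graded algebras
-/

set_option autoImplicit false

noncomputable section

universe u

open CategoryTheory CategoryTheory.Limits AlgebraicGeometry TopologicalSpace Opposite HomogeneousLocalization
open Groth.L18

namespace Groth.L18.LPsi

section graded

variable {A B σ τ : Type u} [CommRing A] [CommRing B] [SetLike σ A] [AddSubgroupClass σ A]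
  [SetLike τ B] [AddSubgroupClass τ B] {𝒜 : ℕ → σ} [GradedRing 𝒜] {ℬ : ℕ → τ} [GradedRing ℬ]
  (φ : 𝒜 →+*ᵍ ℬ)

/-- A homogeneous element in the image comes from a homogeneous element. -/
theorem exists_homogeneous_preimage (y : A) {n : ℕ} (h : φ y ∈ ℬ n) : ∃ y' ∈ 𝒜 n, φ y' = φ y := by
  classical
  refine ⟨DirectSum.decompose 𝒜 y n, SetLike.coe_mem _, ?_⟩
  have hk : ∀ k, φ (DirectSum.decompose 𝒜 y k : A) ∈ ℬ k := fun k => φ.2 (SetLike.coe_mem _)
  calc φ (DirectSum.decompose 𝒜 y n : A)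
      = ∑ k ∈ (DirectSum.decompose 𝒜 y).support,
          (DirectSum.decompose ℬ (φ (DirectSum.decompose 𝒜 y k : A)) n : B) := by
        rw [Finset.sum_eq_single n]
        · rw [DirectSum.decompose_of_mem_same _ (hk n)]
        · intro k _ hkn
          rw [DirectSum.decompose_of_mem_ne _ (hk k) hkn]
        · intro hn
          rw [DirectSum.decompose_of_mem_same _ (hk n), DFinsupp.notMem_support_iff.mp hn]
          simp
    _ = (DirectSum.decompose ℬ (φ y) n : B) := by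
        conv_rhs => rw [← DirectSum.sum_support_decompose 𝒜 y, map_sum, DirectSum.decompose_sum]
        rw [DFinsupp.finsetSum_apply, AddSubmonoidClass.coe_finsetSum]
    _ = φ y := DirectSum.decompose_of_mem_same _ h

end graded

theorem isoSpec_inv_comp {Z : Scheme.{u}} {A : CommRingCat.{u}} {N : Z.Opens} (hN : IsAffineOpen N)
    (g : (N : Scheme.{u}) ⟶ Spec A) : hN.isoSpec.inv ≫ g = Spec.map (toRingMap g) := by
  have h := lift_comp_eq_SpecMap g hN le_rfl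
  rw [show Z.homOfLE (le_refl N) = 𝟙 _ from Scheme.homOfLE_rfl _ _, Category.id_comp] at h
  rw [h]
  refine congrArg Spec.map ?_
  show toRingMap g ≫ Z.presheaf.map (𝟙 (op N)) = _
  rw [CategoryTheory.Functor.map_id, Category.comp_id]

variable {Y X P PL : Scheme.{u}} {q : X ⟶ Y} {𝒮 : RelProj.QCGrAlg Y} {𝒮L : RelProj.QCGrAlg X}
  {u : RelProj.QGrHom q 𝒮 𝒮L} {Λ : Type u} [Preorder Λ] {𝒮i : Λ → RelProj.QCGrAlg Y}
  {φ : ∀ i, (𝒮i i).toQCAlg ⟶ 𝒮.toQCAlg} (hφ : ∀ i, RelProj.IsGradedHom (φ i))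
  {t : ∀ i j, i ≤ j → ((𝒮i i).toQCAlg ⟶ (𝒮i j).toQCAlg)} (ht : ∀ i j (h : i ≤ j), RelProj.IsGradedHom (t i j h))
  (hφt : ∀ i j (h : i ≤ j), t i j h ≫ φ j = φ i)
  (hsurj : ∀ (U : Y.Opens), IsAffineOpen U → ∀ x : 𝒮.presheaf.obj (op U),
    ∃ (i : Λ) (y : (𝒮i i).presheaf.obj (op U)), ((φ i).hom.app (op U)).hom y = x)
  {ui : ∀ i, RelProj.QGrHom q (𝒮i i) 𝒮L} (hui : ∀ i (U : Y.Opens), (ui i).app U = (φ i).hom.app (op U) ≫ u.app U)
  {p : P ⟶ Y} {chart : ∀ (U : Y.Opens) (hU : IsAffineOpen U), (((p ⁻¹ᵁ U : P.Opens) : Scheme.{u}) ≅ Proj (𝒮.deg U hU))}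
  (hP : RelProj.IsRelProj 𝒮 p chart)
  {pL : PL ⟶ X} {chartL : ∀ (U : X.Opens) (hU : IsAffineOpen U), (((pL ⁻¹ᵁ U : PL.Opens) : Scheme.{u}) ≅ Proj (𝒮L.deg U hU))}
  (hPL : RelProj.IsRelProj 𝒮L pL chartL)

include hφ hsurj in
theorem exists_lift {U : Y.Opens} (hU : IsAffineOpen U) {n : ℕ} {x : 𝒮.presheaf.obj (op U)} (hx : x ∈ 𝒮.deg U hU n) :
    ∃ i, ∃ y ∈ (𝒮i i).deg U hU n, ((φ i).hom.app (op U)).hom y = x := by
  obtain ⟨i, y, hy⟩ := hsurj U hU x
  obtain ⟨y', hy', he⟩ := exists_homogeneous_preimage (RelProj.gradedHomAt (φ i) (hφ i) U hU) y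
    (show ((φ i).hom.app (op U)).hom y ∈ 𝒮.deg U hU n by rw [hy]; exact hx)
  exact ⟨i, y', hy', he.trans hy⟩

include hφt in
theorem φ_t {i j : Λ} (h : i ≤ j) (U : Y.Opens) (y : (𝒮i i).presheaf.obj (op U)) :
    ((φ j).hom.app (op U)).hom (((t i j h).hom.app (op U)).hom y) = ((φ i).hom.app (op U)).hom y := by
  rw [← hφt i j h]
  rfl

include ht hφ hφt hsurj in
theorem exists_lift_of_le {i j : Λ} (h : i ≤ j) {U : Y.Opens} (hU : IsAffineOpen U) {n : ℕ}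
    {x : 𝒮.presheaf.obj (op U)} (hx : ∃ y ∈ (𝒮i i).deg U hU n, ((φ i).hom.app (op U)).hom y = x) :
    ∃ y ∈ (𝒮i j).deg U hU n, ((φ j).hom.app (op U)).hom y = x := by
  obtain ⟨y, hy, rfl⟩ := hx
  exact ⟨_, ht i j h U hU n y hy, φ_t hφt h U y⟩

include hφt hui in
theorem ui_comp {i j : Λ} (h : i ≤ j) (U : Y.Opens) : (ui i).app U = (t i j h).hom.app (op U) ≫ (ui j).app U := by
  rw [hui, hui, ← hφt i j h, RelSpec.QCAlg.comp_hom, NatTrans.comp_app, Category.assoc]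

include hφt hui ht in
theorem domQ_mono {i j : Λ} (h : i ≤ j) : RelProj.domQ (ui i) pL chartL ≤ RelProj.domQ (ui j) pL chartL :=
  QMap.domQ_le_of_comp (ht i j h) (ui_comp hφt hui h)

include hφ hui hsurj in
theorem domQ_le_iSup : RelProj.domQ u pL chartL ≤ ⨆ i, RelProj.domQ (ui i) pL chartL := by
  intro x hx
  obtain ⟨⟨⟨⟨U, hU⟩, ⟨U', hU'⟩⟩, hle⟩, w, hw, rfl⟩ := Opens.mem_iSup.mp hx
  obtain ⟨f, hf, hfw⟩ := (RelCone.mem_domOpen _ _).mp hw
  obtain ⟨d, hd, f', hf', hfw'⟩ := (PConeImm.exists_homogeneous_not_mem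
    (p := w.asHomogeneousIdeal.toIdeal.comap (u.gradedAt U hU U' hU' hle))).mp ⟨f, hf, hfw⟩
  obtain ⟨i, y, hy, rfl⟩ := exists_lift hφ hsurj hU hf'
  refine Opens.mem_iSup.mpr ⟨i, Opens.mem_iSup.mpr ⟨⟨(⟨U, hU⟩, ⟨U', hU'⟩), hle⟩, w, (RelCone.mem_domOpen _ _).mpr
    ⟨y, HomogeneousIdeal.mem_irrelevant_of_mem _ hd hy, ?_⟩, rfl⟩⟩
  rw [QMap.gradedAt_comp (hui i) hU hU' hle]
  exact hfw'

include hφ ht hφt hui hsurj in
theorem domQ_eq_top_iff_colim [IsDirected Λ (· ≤ ·)] [Nonempty Λ] [CompactSpace PL] :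
    (RelProj.domQ u pL chartL = ⊤ ↔ ∃ i, RelProj.domQ (ui i) pL chartL = ⊤) ∧
      ∀ i, RelProj.domQ (ui i) pL chartL = ⊤ → ∀ j, i ≤ j → RelProj.domQ (ui j) pL chartL = ⊤ := by
  refine ⟨⟨fun h => ?_, fun ⟨i, hi⟩ => top_le_iff.mp (hi.ge.trans (QMap.domQ_le_of_comp (hφ i) (hui i)))⟩,
    fun i hi j hij => top_le_iff.mp (hi.ge.trans (domQ_mono ht hφt hui hij))⟩
  obtain ⟨i, hi⟩ := isCompact_univ.elim_directed_cover (fun i => ((RelProj.domQ (ui i) pL chartL : PL.Opens) : Set PL))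
    (fun i => (RelProj.domQ (ui i) pL chartL).2)
    (fun x _ => by
      obtain ⟨i, hi⟩ := Opens.mem_iSup.mp (domQ_le_iSup hφ hsurj hui (h.ge (trivial : x ∈ (⊤ : PL.Opens))))
      exact Set.mem_iUnion.mpr ⟨i, hi⟩)
    (directed_of_isDirected_le fun i j h => domQ_mono ht hφt hui h)
  exact ⟨i, top_le_iff.mp fun x _ => hi (Set.mem_univ x)⟩

variable {r : ((RelProj.domQ u pL chartL : PL.Opens) : Scheme.{u}) ⟶ P}
  (hr : RelProj.IsProjQMapOn u p chart pL chartL (RelProj.domQ u pL chartL) r)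
  {Pi : Λ → Scheme.{u}} {pi : ∀ i, Pi i ⟶ Y}
  {charti : ∀ i (U : Y.Opens) (hU : IsAffineOpen U), ((((pi i) ⁻¹ᵁ U : (Pi i).Opens) : Scheme.{u}) ≅ Proj ((𝒮i i).deg U hU))}
  (hPi : ∀ i, RelProj.IsRelProj (𝒮i i) (pi i) (charti i))
  {ri : ∀ i, ((RelProj.domQ (ui i) pL chartL : PL.Opens) : Scheme.{u}) ⟶ Pi i}
  (hri : ∀ i, RelProj.IsProjQMapOn (ui i) (pi i) (charti i) pL chartL (RelProj.domQ (ui i) pL chartL) (ri i))

include hφ hui hP hPL hr hPi hri in
theorem mem_stdOpen_of_ri (i : Λ) {U : Y.Opens} (hU : IsAffineOpen U) {d : ℕ} (hd : 0 < d)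
    {y : (𝒮i i).presheaf.obj (op U)} (hy : y ∈ (𝒮i i).deg U hU d)
    (x : ((RelProj.domQ (ui i) pL chartL : PL.Opens) : Scheme.{u}))
    (x' : ((RelProj.domQ u pL chartL : PL.Opens) : Scheme.{u})) (hx : x'.1 = x.1)
    (h : (ri i).base x ∈ Set.range (QMap.aEmb (pi i) (charti i) U hU hd y hy).base) :
    r.base x' ∈ Set.range (QMap.aEmb p chart U hU hd (((φ i).hom.app (op U)).hom y) (hφ i U hU d y hy)).base := by
  have hqx : q.base (pL.base x.1) ∈ U := by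
    obtain ⟨s, hs⟩ := h
    have h1 : (pi i).base ((ri i).base x) ∈ U := hs ▸ QMap.π_emb_mem U hU _
    have e := congrArg (fun m : ((RelProj.domQ (ui i) pL chartL : PL.Opens) : Scheme.{u}) ⟶ Y => m.base x)
      (QMap.comp_base (ui i) (hPi i) hPL (hri i))
    exact (show (pi i).base ((ri i).base x) = q.base (pL.base x.1) from e) ▸ h1
  obtain ⟨U', hU', hxU', hle⟩ := exists_isAffineOpen_mem_and_subset (x := pL.base x.1) (U := q ⁻¹ᵁ U) hqx
  obtain ⟨w, hw⟩ := QMap.exists_point (chart := chartL) U' hU' x.1 hxU'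
  refine (QMap.mem_preimage_iff u hP hPL hr x' hU hU' (fun z hz => hle hz) w (hw.trans hx.symm) hd _ (hφ i U hU d y hy)).mpr ?_
  rw [← QMap.gradedAt_comp (hui i) hU hU' (fun z hz => hle hz)]
  exact (QMap.mem_preimage_iff (ui i) (hPi i) hPL (hri i) x hU hU' (fun z hz => hle hz) w hw hd y hy).mp h

include hφ hui hsurj hP hPL hr hPi hri in
theorem isDominant_colim (h : ∀ i, IsDominant (ri i)) : IsDominant r := by
  refine ⟨dense_iff_inter_open.mpr fun O hO ⟨z, hz⟩ => ?_⟩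
  obtain ⟨⟨U, hU⟩, hzU⟩ := Opens.mem_iSup.mp ((iSup_affineOpens_eq_top Y).ge (trivial : p.base z ∈ (⊤ : Y.Opens)))
  obtain ⟨c, rfl⟩ := QMap.exists_point (chart := chart) U hU z hzU
  obtain ⟨d, hd, f, hf, hcf, hsub⟩ := exists_basicOpen_le (hO.preimage (RelProj.emb p chart U hU).continuous) hz
  obtain ⟨i, y, hy, rfl⟩ := exists_lift hφ hsurj hU hf
  obtain ⟨w, hw⟩ : ∃ w : Proj ((𝒮i i).deg U hU), y ∉ w.asHomogeneousIdeal := by
    by_contra hcon
    push Not at hcon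
    obtain ⟨m, hm⟩ := (basicOpen_eq_empty_iff hd hy).mp hcon
    exact hcf (c.isPrime.mem_of_pow_mem m (by rw [← map_pow, hm, map_zero]; exact zero_mem _))
  obtain ⟨x, hx⟩ := (h i).denseRange.exists_mem_open (QMap.aEmb (pi i) (charti i) U hU hd y hy).isOpenEmbedding.isOpen_range
    ⟨_, (QMap.mem_range_aEmb (p := pi i) (chart := charti i) U hU hd y hy w).mpr hw⟩
  have hx' : x.1 ∈ RelProj.domQ u pL chartL := QMap.domQ_le_of_comp (hφ i) (hui i) x.2
  refine ⟨r.base ⟨x.1, hx'⟩, ?_, ⟨_, rfl⟩⟩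
  obtain ⟨s, hs⟩ := mem_stdOpen_of_ri hφ hui hP hPL hr hPi hri i hU hd hy x ⟨x.1, hx'⟩ rfl hx
  rw [← hs]
  exact hsub ((Proj.opensRange_awayι (𝒮.deg U hU) _ (hφ i U hU d y hy) hd).le ⟨s, rfl⟩)


variable [IsDirected Λ (· ≤ ·)] [Nonempty Λ]

include hφ ht hφt hsurj hui hP hPL hr hPi hri in
theorem exists_level [IsImmersion r] [LocallyOfFiniteType (pL ≫ q)] {U : Y.Opens} (hU : IsAffineOpen U) {d : ℕ}
    (hd : 0 < d) {f : 𝒮.presheaf.obj (op U)} (hf : f ∈ 𝒮.deg U hU d)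
    (hle : (QMap.aEmb p chart U hU hd f hf).opensRange ≤ r.coborderRange) :
    ∃ i : Λ, ∀ j, i ≤ j → ∃ E : (Pi j).Opens, IsClosedImmersion ((ri j) ∣_ E) ∧
      ∀ x' : ((RelProj.domQ u pL chartL : PL.Opens) : Scheme.{u}),
        r.base x' ∈ (QMap.aEmb p chart U hU hd f hf).opensRange →
          ∃ h : x'.1 ∈ RelProj.domQ (ui j) pL chartL, (ri j).base ⟨x'.1, h⟩ ∈ E := by
  classical
  set a := QMap.aEmb p chart U hU hd f hf
  let N := r ⁻¹ᵁ a.opensRange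
  have hNr : Set.range (N.ι ≫ r).base ⊆ Set.range a.base := by rintro _ ⟨x, rfl⟩; exact x.2
  let g := IsOpenImmersion.lift a (N.ι ≫ r) hNr
  have hg : g ≫ a = N.ι ≫ r := IsOpenImmersion.lift_fac _ _ _
  have hpb : IsPullback N.ι g r a := (IsOpenImmersion.isPullback g N.ι a r hg.symm (by simp [N])).flip
  haveI := isClosedImmersion_of_isImmersion hpb hle
  have hN := isAffineOpen_of g
  set ω := toRingMap g with hω
  have hωs : Function.Surjective ω.hom := (isClosedImmersion_iff hN g).mp inferInstance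
  have hgω : hN.isoSpec.inv ≫ g = Spec.map ω := isoSpec_inv_comp hN g
  let α : Γ(Y, U) ⟶ CommRingCat.of (Away (𝒮.deg U hU) f) :=
    𝒮.strZero U hU ≫ CommRingCat.ofHom (fromZeroRingHom (𝒮.deg U hU) (Submonoid.powers f))
  have hap : a ≫ p = Spec.map α ≫ hU.fromSpec := by
    have hl : (chart U hU).inv ≫ (p ⁻¹ᵁ U).ι ≫ p =
        Proj.toSpecZero (𝒮.deg U hU) ≫ Spec.map (𝒮.strZero U hU) ≫ hU.fromSpec :=
      (RP.chart_ι_comp hP U hU).trans (RP.projBase_ι 𝒮 U hU)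
    simp only [a, QMap.aEmb, RelProj.emb, Category.assoc, hl, Proj.awayι_toSpecZero_assoc, α, Spec.map_comp]
  have hft : (α ≫ ω).hom.FiniteType := by
    have e : Spec.map (α ≫ ω) ≫ hU.fromSpec = hN.isoSpec.inv ≫ N.ι ≫ (RelProj.domQ u pL chartL).ι ≫ pL ≫ q := by
      rw [Spec.map_comp, Category.assoc, ← hap, ← hgω, Category.assoc, ← QMap.comp_base u hP hPL hr, reassoc_of% hg]
    haveI : LocallyOfFiniteType (Spec.map (α ≫ ω) ≫ hU.fromSpec) := by rw [e]; infer_instance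
    haveI : LocallyOfFiniteType (Spec.map (α ≫ ω)) := locallyOfFiniteType_of_comp _ hU.fromSpec
    exact (HasRingHomProperty.Spec_iff (P := @LocallyOfFiniteType)).mp inferInstance
  letI := (α ≫ ω).hom.toAlgebra
  obtain ⟨S, hS⟩ : (⊤ : Subalgebra Γ(Y, U) Γ((RelProj.domQ u pL chartL : Scheme.{u}), N)).FG := hft.out
  have key : ∀ b ∈ S, ∃ i, ∀ j, i ≤ j → ∃ (m : ℕ) (y' : (𝒮i j).presheaf.obj (op U)) (hy' : y' ∈ (𝒮i j).deg U hU (m • d)),
      ω.hom (Away.mk (𝒮.deg U hU) hf m (((φ j).hom.app (op U)).hom y') (hφ j U hU _ y' hy')) = b := by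
    intro b _
    obtain ⟨z, rfl⟩ := hωs b
    obtain ⟨m, s', hs', rfl⟩ := Away.mk_surjective (𝒮.deg U hU) hf z
    obtain ⟨i, hi⟩ := exists_lift hφ hsurj hU hs'
    refine ⟨i, fun j hij => ?_⟩
    obtain ⟨y', hy', he⟩ := exists_lift_of_le hφ ht hφt hsurj hij hU ⟨hi.choose, hi.choose_spec.1, hi.choose_spec.2⟩
    subst he
    exact ⟨m, y', hy', rfl⟩
  choose! lev hlev using key
  obtain ⟨i₀, hi₀⟩ := exists_lift hφ hsurj hU hf
  obtain ⟨i, hi⟩ := Finset.exists_le (insert i₀ (S.image lev))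
  refine ⟨i, fun j hij => ?_⟩
  obtain ⟨y, hy, hyf⟩ := exists_lift_of_le hφ ht hφt hsurj ((hi i₀ (Finset.mem_insert_self _ _)).trans hij) hU
    ⟨hi₀.choose, hi₀.choose_spec.1, hi₀.choose_spec.2⟩
  let v := RelProj.QGrHom.ofHom (φ j) (hφ j)
  have hψ : v.gradedAt U hU U hU le_rfl y = f := (QMap.gradedAt_ofHom_apply (φ j) (hφ j) U hU le_rfl y).trans hyf
  obtain ⟨Φv, hΦv, -⟩ := QMap.existsUnique_on v (hPi j) hP
  obtain ⟨ρ, hρ, hρr⟩ := QMap.exists_factor_comp (hφ j) (hui j) hP hPL hr hΦv (hri j)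
  have hrange := QMap.range_subset_domQ v (p' := p) (chart' := chart) hU hU le_rfl hd hy hψ hf
  let m := IsOpenImmersion.lift (RelProj.domQ v p chart).ι a hrange
  have hm := QMap.lift_comp' v hU hU le_rfl hd hy hψ hf hΦv m (IsOpenImmersion.lift_fac _ _ _)
  have hdom : ∀ x' : ((RelProj.domQ u pL chartL : PL.Opens) : Scheme.{u}), r.base x' ∈ a.opensRange →
      x'.1 ∈ RelProj.domQ (ui j) pL chartL := fun x' hx' =>
    (QMap.mem_domQ_comp_iff (hφ j) (hui j) hP hPL hr x').mpr (by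
      have := hrange hx'
      rwa [Scheme.Opens.range_ι] at this)
  have hT0 : Set.range (N.ι ≫ (RelProj.domQ u pL chartL).ι).base ⊆
      Set.range (RelProj.domQ (ui j) pL chartL).ι.base := by
    rw [Scheme.Opens.range_ι]
    rintro _ ⟨x, rfl⟩
    exact hdom x.1 x.2
  let T' := IsOpenImmersion.lift (RelProj.domQ (ui j) pL chartL).ι (N.ι ≫ (RelProj.domQ u pL chartL).ι) hT0
  have hle' := QMap.domQ_le_of_comp (pL := pL) (chartL := chartL) (hφ j) (hui j)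
  have hT : T' ≫ PL.homOfLE hle' = N.ι := by
    rw [← cancel_mono (RelProj.domQ u pL chartL).ι, Category.assoc, Scheme.homOfLE_ι, IsOpenImmersion.lift_fac]
  haveI : IsOpenImmersion T' := by
    haveI : IsOpenImmersion (T' ≫ PL.homOfLE hle') := by rw [hT]; infer_instance
    exact IsOpenImmersion.of_comp T' (PL.homOfLE hle')
  let σ := CommRingCat.ofHom (PConeImm.awayMapTo (v.gradedAt U hU U hU le_rfl) y f hψ)
  let aj := QMap.aEmb (pi j) (charti j) U hU hd y hy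
  have hTr : T' ≫ ri j = (g ≫ Spec.map σ) ≫ aj := by
    have e1 : T' ≫ ρ = g ≫ m := by
      rw [← cancel_mono (RelProj.domQ v p chart).ι, Category.assoc, hρ, Category.assoc, IsOpenImmersion.lift_fac,
        reassoc_of% hT, hg]
    rw [← hρr, reassoc_of% e1, hm, Category.assoc]
  refine ⟨aj.opensRange, map_restrict (g := g ≫ Spec.map σ) (T := T')
    (IsOpenImmersion.isPullback _ T' aj (ri j) hTr ?_).flip @IsClosedImmersion ?_, fun x' hx' => ?_⟩
  · ext z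
    constructor
    · intro hz
      have hz' := hle' z.2
      obtain hr' := mem_stdOpen_of_ri hφ hui hP hPL hr hPi hri j hU hd hy z ⟨z.1, hz'⟩ rfl hz
      subst hyf
      refine ⟨⟨⟨z.1, hz'⟩, hr'⟩, (RelProj.domQ (ui j) pL chartL).ι.isOpenEmbedding.injective ?_⟩
      rw [← Scheme.Hom.comp_apply T', IsOpenImmersion.lift_fac]
      rfl
    · rintro ⟨x, rfl⟩
      show (ri j).base (T'.base x) ∈ Set.range aj.base
      rw [← Scheme.Hom.comp_apply, hTr]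
      exact ⟨_, rfl⟩
  · haveI : IsClosedImmersion (Spec.map (σ ≫ ω)) := by
      refine IsClosedImmersion.spec_of_surjective _ fun b => ?_
      have hb : b ∈ Algebra.adjoin Γ(Y, U) (S : Set _) := by rw [hS]; exact Algebra.mem_top
      induction hb using Algebra.adjoin_induction with
      | mem b hb =>
        obtain ⟨n, y', hy', he⟩ := hlev b hb j ((hi _ (Finset.mem_insert_of_mem (Finset.mem_image_of_mem lev hb))).trans hij)
        refine ⟨Away.mk ((𝒮i j).deg U hU) hy n y' hy', ?_⟩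
        show ω.hom (PConeImm.awayMapTo (v.gradedAt U hU U hU le_rfl) y f hψ _) = b
        rw [PConeImm.awayMapTo_val, ← he]
        refine congrArg ω.hom (val_injective _ ?_)
        simp only [Away.val_mk, QMap.gradedAt_ofHom_apply, v]
      | algebraMap c =>
        refine ⟨Away.mk ((𝒮i j).deg U hU) hy 0 (((𝒮i j).str.app (op U)).hom c)
          (by rw [zero_smul]; exact (𝒮i j).str_mem U hU c), ?_⟩
        show ω.hom (PConeImm.awayMapTo (v.gradedAt U hU U hU le_rfl) y f hψ _) = ω.hom (α.hom c)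
        rw [PConeImm.awayMapTo_val]
        refine congrArg ω.hom (val_injective _ ?_)
        simp only [Away.val_mk, QMap.gradedAt_ofHom_apply, v, α, CommRingCat.hom_comp, RingHom.comp_apply,
          CommRingCat.hom_ofHom, PConeImm.fromZero_val]
        rw [Localization.mk_eq_mk', ← ConcreteCategory.comp_apply, ← NatTrans.comp_app, (φ j).comm]
        congr 1
        exact Subtype.ext (pow_zero f)
      | add a b _ _ ha hb => obtain ⟨x, rfl⟩ := ha; obtain ⟨x', rfl⟩ := hb; exact ⟨x + x', map_add _ _ _⟩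
      | mul a b _ _ ha hb => obtain ⟨x, rfl⟩ := ha; obtain ⟨x', rfl⟩ := hb; exact ⟨x * x', map_mul _ _ _⟩
    have e : g ≫ Spec.map σ = hN.isoSpec.hom ≫ Spec.map (σ ≫ ω) := by
      rw [Spec.map_comp, ← hgω, Category.assoc, Iso.hom_inv_id_assoc]
    rw [e]
    infer_instance
  · refine ⟨hdom x' hx', ?_⟩
    have e : (⟨x'.1, hdom x' hx'⟩ : ((RelProj.domQ (ui j) pL chartL : PL.Opens) : Scheme.{u})) = T'.base ⟨x', hx'⟩ := by
      refine (RelProj.domQ (ui j) pL chartL).ι.isOpenEmbedding.injective ?_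
      rw [← Scheme.Hom.comp_apply T', IsOpenImmersion.lift_fac]
      rfl
    rw [e, ← Scheme.Hom.comp_apply, hTr]
    exact ⟨_, rfl⟩

include hφ ht hφt hsurj hui hP hPL hr hPi hri in
theorem isImmersion_iff_colim [CompactSpace PL] [LocallyOfFiniteType (pL ≫ q)] :
    ((RelProj.domQ u pL chartL = ⊤ ∧ IsImmersion r) ↔
        ∃ i, RelProj.domQ (ui i) pL chartL = ⊤ ∧ IsImmersion (ri i)) ∧
      ∀ i, (RelProj.domQ (ui i) pL chartL = ⊤ ∧ IsImmersion (ri i)) →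
        ∀ j, i ≤ j → RelProj.domQ (ui j) pL chartL = ⊤ ∧ IsImmersion (ri j) := by
  classical
  refine ⟨⟨?_, fun ⟨i, hd, hi⟩ => QMap.isImmersion_of_comp (hφ i) (hui i) hP (hPi i) hPL hr (hri i) hd hi⟩,
    fun i ⟨hd, hi⟩ j hij =>
      QMap.isImmersion_of_comp (ht i j hij) (ui_comp hφt hui hij) (hPi j) (hPi i) hPL (hri j) (hri i) hd hi⟩
  rintro ⟨htop, himm⟩
  have hpt : ∀ ξ : PL, ∃ (i : Λ) (O : Set PL), IsOpen O ∧ ξ ∈ O ∧ ∀ j, i ≤ j → ∃ E : (Pi j).Opens,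
      IsClosedImmersion ((ri j) ∣_ E) ∧
      ∀ η ∈ O, ∃ h : η ∈ RelProj.domQ (ui j) pL chartL, (ri j).base ⟨η, h⟩ ∈ E := by
    intro ξ
    let x : ((RelProj.domQ u pL chartL : PL.Opens) : Scheme.{u}) := ⟨ξ, htop.ge trivial⟩
    obtain ⟨⟨U, hU⟩, hzU⟩ := Opens.mem_iSup.mp ((iSup_affineOpens_eq_top Y).ge (trivial : p.base (r.base x) ∈ (⊤ : Y.Opens)))
    obtain ⟨c, hc⟩ := QMap.exists_point (chart := chart) U hU _ hzU
    obtain ⟨d, hd, f, hf, hcf, hsub⟩ := exists_basicOpen_le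
      (r.coborderRange.2.preimage (RelProj.emb p chart U hU).continuous) (v := c)
      (show (RelProj.emb p chart U hU).base c ∈ r.coborderRange by rw [hc]; exact subset_coborder ⟨x, rfl⟩)
    obtain ⟨i, hi⟩ := exists_level hφ ht hφt hsurj hui hP hPL hr hPi hri hU hd hf (by
      rintro _ ⟨s, rfl⟩
      exact hsub ((Proj.opensRange_awayι (𝒮.deg U hU) f hf hd).le ⟨s, rfl⟩))
    refine ⟨i, (RelProj.domQ u pL chartL).ι.base '' (r ⁻¹ᵁ (QMap.aEmb p chart U hU hd f hf).opensRange : Set _),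
      (RelProj.domQ u pL chartL).ι.isOpenEmbedding.isOpenMap _ (r ⁻¹ᵁ (QMap.aEmb p chart U hU hd f hf).opensRange).2, ⟨x, ?_, rfl⟩, fun j hij => ?_⟩
    · show r.base x ∈ Set.range (QMap.aEmb p chart U hU hd f hf).base
      rw [← hc]
      exact (QMap.mem_range_aEmb (p := p) (chart := chart) U hU hd f hf c).mpr hcf
    · obtain ⟨E, hE, hE'⟩ := hi j hij
      exact ⟨E, hE, by rintro _ ⟨x', hx', rfl⟩; exact hE' x' hx'⟩
  choose lev O hO hξ hlev using hpt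
  obtain ⟨F, hF⟩ := isCompact_univ.elim_finite_subcover O hO (fun ξ _ => Set.mem_iUnion.mpr ⟨ξ, hξ ξ⟩)
  obtain ⟨i, hi⟩ := Finset.exists_le (F.image lev)
  choose E hE hE' using fun ξ : F => hlev ξ.1 i (hi _ (Finset.mem_image_of_mem lev ξ.2))
  have hcov : ∀ η : PL, ∃ ξ : F, η ∈ O ξ.1 := fun η => by
    obtain ⟨ξ, hξF, hη⟩ := Set.mem_iUnion₂.mp (hF (Set.mem_univ η))
    exact ⟨⟨ξ, hξF⟩, hη⟩
  refine ⟨i, top_le_iff.mp fun η _ => ?_, ?_⟩
  · obtain ⟨ξ, hη⟩ := hcov η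
    exact (hE' ξ η hη).1
  · have hQ : IsClosedImmersion ((ri i) ∣_ ⨆ ξ, E ξ) := by
      refine IsZariskiLocalAtTarget.of_iSup_eq_top (P := @IsClosedImmersion) (fun ξ => (⨆ ξ, E ξ).ι ⁻¹ᵁ E ξ) ?_ fun ξ => ?_
      · rw [← Scheme.Hom.preimage_iSup, Scheme.Opens.ι_preimage_self]
      · refine (MorphismProperty.arrow_mk_iso_iff @IsClosedImmersion
          (morphismRestrictRestrict (ri i) _ _ ≪≫ morphismRestrictEq (ri i) ?_)).mpr (hE ξ)
        rw [Scheme.Hom.image_preimage_eq_opensRange_inf, Scheme.Opens.opensRange_ι]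
        exact inf_eq_right.mpr (le_iSup E ξ)
    have hpre : (ri i) ⁻¹ᵁ (⨆ ξ, E ξ) = ⊤ := top_le_iff.mp fun z _ => by
      obtain ⟨ξ, hη⟩ := hcov z.1
      obtain ⟨h, hh⟩ := hE' ξ z.1 hη
      exact Opens.mem_iSup.mpr ⟨ξ, hh⟩
    obtain ⟨e, he, hre⟩ := eq_comp_of_preimage_eq_top hpre
    rw [hre]
    infer_instance

end Groth.L18.LPsi
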