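import Groth.Agent.L18.LPsi.Locus

/-!
# `r_{L,ψ}` over an affine base: the opens `X_t`
-/

set_option autoImplicit false

noncomputable section

universe u

open CategoryTheory CategoryTheory.Limits AlgebraicGeometry TopologicalSpace Opposite HomogeneousLocalization
open Groth.L18

namespace Groth.L18.LPsi

variable {Y X P PL : Scheme.{u}} {q : X ⟶ Y} {L : X.Modules} {𝒮 : RelProj.QCGrAlg Y} {𝒮L : RelProj.QCGrAlg X}
  {j : L ⟶ 𝒮L.toModule} (u : RelProj.QGrHom q 𝒮 𝒮L) {hY : IsAffineOpen (⊤ : Y.Opens)}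

/-- The restrictions of the image of a global section. -/
abbrev tOf (f : 𝒮.presheaf.obj (op ⊤)) (V : X.affineOpens) : 𝒮L.presheaf.obj (op (V.1 : X.Opens)) :=
  (u.appLE ⊤ (V.1 : X.Opens) (le_top.trans (Scheme.Hom.preimage_top q).ge)).hom f

theorem tOf_mem {d : ℕ} {f : 𝒮.presheaf.obj (op ⊤)} (hf : f ∈ 𝒮.deg ⊤ hY d) (V : X.affineOpens) :
    tOf u f V ∈ 𝒮L.deg V.1 V.2 d :=
  (u.gradedAt ⊤ hY V.1 V.2 (le_top.trans (Scheme.Hom.preimage_top q).ge)).2 hf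

theorem tOf_res (f : 𝒮.presheaf.obj (op ⊤)) (U V : X.affineOpens) (h : (V.1 : X.Opens) ≤ U.1) :
    (𝒮L.presheaf.map (homOfLE h).op).hom (tOf u f U) = tOf u f V :=
  ConcreteCategory.congr_hom
    (u.appLE_map (U := ⊤) (le_top.trans (Scheme.Hom.preimage_top q).ge) h) f

/-- The open `X_t`. -/
abbrev nv (d : ℕ) (f : 𝒮.presheaf.obj (op ⊤)) : X.Opens := locus (𝒯 := 𝒮L) d (tOf u f)

variable [Coh.IsQCoh L] (hL : PicF.IsInvertible L) (hj : RelProj.IsGrSymAlg L 𝒮L j)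
  {p : P ⟶ Y} {chart : ∀ (U : Y.Opens) (hU : IsAffineOpen U), (((p ⁻¹ᵁ U : P.Opens) : Scheme.{u}) ≅ Proj (𝒮.deg U hU))}
  (hP : RelProj.IsRelProj 𝒮 p chart)
  {pL : PL ⟶ X} {chartL : ∀ (U : X.Opens) (hU : IsAffineOpen U), (((pL ⁻¹ᵁ U : PL.Opens) : Scheme.{u}) ≅ Proj (𝒮L.deg U hU))}
  (hPL : RelProj.IsRelProj 𝒮L pL chartL)

theorem exists_chart_point (ξ : PL) : ∃ (V : X.Opens) (hV : IsAffineOpen V) (v : Proj (𝒮L.deg V hV)),
    (RelProj.emb pL chartL V hV).base v = ξ := by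
  obtain ⟨⟨V, hV⟩, hx⟩ := Opens.mem_iSup.mp ((iSup_affineOpens_eq_top X).ge (trivial : pL.base ξ ∈ (⊤ : X.Opens)))
  obtain ⟨v, hv⟩ := QMap.exists_point (chart := chartL) V hV ξ hx
  exact ⟨V, hV, v, hv⟩

include hL hj hPL in
theorem emb_mem_nv_iff {d : ℕ} {f : 𝒮.presheaf.obj (op ⊤)} (hf : f ∈ 𝒮.deg ⊤ hY d) {V : X.Opens} (hV : IsAffineOpen V)
    (v : Proj (𝒮L.deg V hV)) :
    pL.base ((RelProj.emb pL chartL V hV).base v) ∈ nv u d f ↔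
      u.gradedAt ⊤ hY V hV (le_top.trans (Scheme.Hom.preimage_top q).ge) f ∉ v.asHomogeneousIdeal :=
  mem_locus_iff hPL hL hj (tOf u f) (tOf_mem u hf) (tOf_res u f) hV v

include hL hj hPL in
theorem preimage_nv_le_domQ {d : ℕ} (hd : 0 < d) {f : 𝒮.presheaf.obj (op ⊤)} (hf : f ∈ 𝒮.deg ⊤ hY d) :
    pL ⁻¹ᵁ nv u d f ≤ RelProj.domQ u pL chartL := by
  intro ξ hξ
  obtain ⟨V, hV, v, rfl⟩ := exists_chart_point (chartL := chartL) ξ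
  exact Opens.mem_iSup.mpr ⟨⟨(⟨⊤, hY⟩, ⟨V, hV⟩), le_top.trans (Scheme.Hom.preimage_top q).ge⟩, v,
    (RelCone.mem_domOpen _ _).mpr ⟨f, HomogeneousIdeal.mem_irrelevant_of_mem _ hd hf,
      (emb_mem_nv_iff u hL hj hPL hf hV v).mp hξ⟩, rfl⟩

include hL hj hP hPL in
theorem mem_preimage_basicOpen {r : ((RelProj.domQ u pL chartL : PL.Opens) : Scheme.{u}) ⟶ P}
    (hr : RelProj.IsProjQMapOn u p chart pL chartL (RelProj.domQ u pL chartL) r)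
    {d : ℕ} (hd : 0 < d) {f : 𝒮.presheaf.obj (op ⊤)} (hf : f ∈ 𝒮.deg ⊤ hY d)
    (x : ((RelProj.domQ u pL chartL : PL.Opens) : Scheme.{u})) :
    r.base x ∈ (RelProj.emb p chart ⊤ hY) ''ᵁ Proj.basicOpen (𝒮.deg ⊤ hY) f ↔ pL.base x.1 ∈ nv u d f := by
  obtain ⟨V, hV, v, hv⟩ := exists_chart_point (chartL := chartL) x.1
  rw [← hv, emb_mem_nv_iff u hL hj hPL hf hV v, ← QMap.mem_preimage_iff u hP hPL hr x hY hV
    (le_top.trans (Scheme.Hom.preimage_top q).ge) v hv hd f hf]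
  constructor
  · rintro ⟨w, hw, he⟩
    rw [← he]
    exact (QMap.mem_range_aEmb (p := p) (chart := chart) ⊤ hY hd f hf w).mpr hw
  · rintro ⟨w, hw⟩
    exact ⟨(Proj.awayι (𝒮.deg ⊤ hY) f hf hd).base w,
      (Proj.opensRange_awayι (𝒮.deg ⊤ hY) f hf hd).le ⟨w, rfl⟩, hw⟩

include hL hj hP hPL in
theorem preimage_basicOpen_eq {r : ((RelProj.domQ u pL chartL : PL.Opens) : Scheme.{u}) ⟶ P}
    (hr : RelProj.IsProjQMapOn u p chart pL chartL (RelProj.domQ u pL chartL) r)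
    {d : ℕ} (hd : 0 < d) {f : 𝒮.presheaf.obj (op ⊤)} (hf : f ∈ 𝒮.deg ⊤ hY d) :
    (RelProj.domQ u pL chartL).ι ''ᵁ (r ⁻¹ᵁ ((RelProj.emb p chart ⊤ hY) ''ᵁ Proj.basicOpen (𝒮.deg ⊤ hY) f)) =
      pL ⁻¹ᵁ nv u d f := by
  ext ξ
  constructor
  · rintro ⟨x, hx, rfl⟩
    exact (mem_preimage_basicOpen u hL hj hP hPL hr hd hf x).mp hx
  · intro hξ
    refine ⟨⟨ξ, preimage_nv_le_domQ u hL hj hPL hd hf hξ⟩, ?_, rfl⟩
    exact (mem_preimage_basicOpen u hL hj hP hPL hr hd hf _).mpr hξ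

include hL hj hPL in
theorem domQ_eq_top_iff :
    RelProj.domQ u pL chartL = ⊤ ↔
      ∀ x : X, ∃ (n : ℕ) (_ : 0 < n) (s : 𝒮.presheaf.obj (op ⊤)) (_ : s ∈ 𝒮.deg ⊤ hY n)
        (V : X.Opens) (hV : IsAffineOpen V), x ∈ V ∧
          ((𝒮L.deg V hV n : AddSubgroup (𝒮L.presheaf.obj (op V))) : Set (𝒮L.presheaf.obj (op V))) ⊆
            (Ideal.span {(u.appLE ⊤ V (le_top.trans (Scheme.Hom.preimage_top q).ge)).hom s} : Set (𝒮L.presheaf.obj (op V))) := by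
  constructor
  · intro htop x
    haveI := SymInv.isIso_relProj hj hL hPL
    obtain ⟨ξ, rfl⟩ : ∃ ξ, pL.base ξ = x := ⟨(inv pL).base x, by rw [← Scheme.Hom.comp_apply, IsIso.inv_hom_id]; rfl⟩
    obtain ⟨V, hV, v, rfl⟩ := exists_chart_point (chartL := chartL) ξ
    obtain ⟨f, hf, hfv⟩ := (RelCone.mem_domOpen _ _).mp ((QMap.mem_domQ_iff u hPL hY hV
      (le_top.trans (Scheme.Hom.preimage_top q).ge) v).mp (htop.ge trivial))
    obtain ⟨d, hd, f', hf', hfv'⟩ := (PConeImm.exists_homogeneous_not_mem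
      (p := v.asHomogeneousIdeal.toIdeal.comap (u.gradedAt ⊤ hY V hV _))).mp ⟨f, hf, hfv⟩
    obtain ⟨⟨⟨V', hV'⟩, hsub⟩, hx⟩ := Opens.mem_iSup.mp ((emb_mem_nv_iff u hL hj hPL hf' hV v).mpr hfv')
    exact ⟨d, hd, f', hf', V', hV', hx, hsub⟩
  · intro h
    refine top_le_iff.mp fun ξ _ => ?_
    obtain ⟨n, hn, s, hs, V, hV, hx, hsub⟩ := h (pL.base ξ)
    exact preimage_nv_le_domQ u hL hj hPL hn hs (Opens.mem_iSup.mpr ⟨⟨⟨V, hV⟩, hsub⟩, hx⟩)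

end Groth.L18.LPsi
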