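import Groth.Agent.L18.LPsi.Global
import Groth.Agent.L18.LPsi.Dominant
import Mathlib.AlgebraicGeometry.Morphisms.Immersion

/-!
# Immersion criteria for `r_{L,ψ}` over an affine base
-/

set_option autoImplicit false

noncomputable section

universe u

open CategoryTheory CategoryTheory.Limits AlgebraicGeometry TopologicalSpace Opposite HomogeneousLocalization
open Groth.L18

namespace Groth.L18.LPsi

open Groth.L18.Frame (rs ro IsFrame)

variable {Y X P PL : Scheme.{u}} {q : X ⟶ Y} {L : X.Modules} {𝒮 : RelProj.QCGrAlg Y} {𝒮L : RelProj.QCGrAlg X}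
  {j : L ⟶ 𝒮L.toModule} (u : RelProj.QGrHom q 𝒮 𝒮L) {hY : IsAffineOpen (⊤ : Y.Opens)}
  [Coh.IsQCoh L] (hL : PicF.IsInvertible L) (hj : RelProj.IsGrSymAlg L 𝒮L j)
  {p : P ⟶ Y} {chart : ∀ (U : Y.Opens) (hU : IsAffineOpen U), (((p ⁻¹ᵁ U : P.Opens) : Scheme.{u}) ≅ Proj (𝒮.deg U hU))}
  (hP : RelProj.IsRelProj 𝒮 p chart)
  {pL : PL ⟶ X} {chartL : ∀ (U : X.Opens) (hU : IsAffineOpen U), (((pL ⁻¹ᵁ U : PL.Opens) : Scheme.{u}) ≅ Proj (𝒮L.deg U hU))}
  (hPL : RelProj.IsRelProj 𝒮L pL chartL)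

/-- The image of a global section over an open of `X`. -/
abbrev fOn (V : X.Opens) : 𝒮.presheaf.obj (op ⊤) →+* 𝒮L.presheaf.obj (op V) :=
  (u.appLE ⊤ V (le_top.trans (Scheme.Hom.preimage_top q).ge)).hom

theorem fOn_res {V W : X.Opens} (h : W ≤ V) (x : 𝒮.presheaf.obj (op ⊤)) :
    (𝒮L.presheaf.map (homOfLE h).op).hom (fOn u V x) = fOn u W x :=
  ConcreteCategory.congr_hom (u.appLE_map (U := ⊤) (le_top.trans (Scheme.Hom.preimage_top q).ge) h) x

include hL hj hPL in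
/-- On an affine open inside the non-vanishing locus, with a frame, the coefficient is a unit. -/
theorem exists_unit_coeff {d : ℕ} {s : 𝒮.presheaf.obj (op ⊤)} (hs : s ∈ 𝒮.deg ⊤ hY d) {V : X.Opens}
    (hV : IsAffineOpen V) (h : V ≤ nv u d s) {e : Γ(L, V)} (he : IsFrame L V e) :
    ∃ c : Γ(X, V), IsUnit c ∧ fOn u V s = (𝒮L.str.app (op V)).hom c * SymInv.gen j e ^ d := by
  obtain ⟨c, hc⟩ := exists_coeff hj hV he (tOf_mem u hs ⟨V, hV⟩)
  refine ⟨c, ?_, hc⟩
  refine X.toRingedSpace.isUnit_of_isUnit_germ V c fun x hx => (X.mem_basicOpen c x hx).mp ?_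
  haveI := SymInv.isIso_relProj hj hL hPL
  obtain ⟨ξ, rfl⟩ : ∃ ξ, pL.base ξ = x := ⟨(inv pL).base x, by rw [← Scheme.Hom.comp_apply, IsIso.inv_hom_id]; rfl⟩
  obtain ⟨v, rfl⟩ := QMap.exists_point (chart := chartL) V hV ξ hx
  exact (not_mem_iff_coeff hPL hj hV he hc v).mp ((emb_mem_nv_iff u hL hj hPL hs hV v).mp (h hx))

include hL hj hPL in
theorem eq_zero_of_mul_pow {d : ℕ} {s : 𝒮.presheaf.obj (op ⊤)} (hs : s ∈ 𝒮.deg ⊤ hY d) {V : X.Opens}
    (hV : IsAffineOpen V) (h : V ≤ nv u d s) {e : Γ(L, V)} (he : IsFrame L V e) {m : ℕ} {a : Γ(X, V)}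
    (ha : (𝒮L.str.app (op V)).hom a * fOn u V s ^ m = 0) : a = 0 := by
  obtain ⟨c, hcu, hc⟩ := exists_unit_coeff u hL hj hPL hs hV h he
  refine (IsUnit.mul_left_eq_zero (hcu.pow m)).mp (SymInv.coeff_eq_zero hj hV he (d * m) ?_)
  rw [← ha, hc, mul_pow, map_mul, map_pow, ← pow_mul, mul_assoc]

include hL in
/-- Affine opens with a frame inside a given open. -/
theorem exists_frame_cover (N : X.Opens) (x : X) (hx : x ∈ N) :
    ∃ (W : X.Opens) (_ : IsAffineOpen W) (e : Γ(L, W)), x ∈ W ∧ W ≤ N ∧ IsFrame L W e :=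
  SymInv.exists_affine_frame hL x N hx

omit [Coh.IsQCoh L] in
include hL in
theorem eq_of_eq_on_frames (N : X.Opens) (a b : 𝒮L.presheaf.obj (op N))
    (h : ∀ (W : X.Opens) (hW : IsAffineOpen W) (hWN : W ≤ N) (e : Γ(L, W)), IsFrame L W e →
      (𝒮L.presheaf.map (homOfLE hWN).op).hom a = (𝒮L.presheaf.map (homOfLE hWN).op).hom b) : a = b := by
  refine TopCat.Sheaf.eq_of_locally_eq' ⟨𝒮L.presheaf, 𝒮L.isSheaf⟩
    (fun W : {W : X.Opens // IsAffineOpen W ∧ W ≤ N ∧ ∃ e : Γ(L, W), IsFrame L W e} => W.1) N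
    (fun W => homOfLE W.2.2.1) ?_ a b ?_
  · intro x hx
    obtain ⟨W, hW, e, hxW, hWN, he⟩ := SymInv.exists_affine_frame (L := L) hL x N hx
    exact Opens.mem_iSup.mpr ⟨⟨W, hW, hWN, e, he⟩, hxW⟩
  · rintro ⟨W, hW, hWN, e, he⟩
    exact h W hW hWN e he

include hL hj hPL in
/-- Functions on the non-vanishing locus are determined by their product with a power of the section. -/
theorem fun_ext {d : ℕ} {s : 𝒮.presheaf.obj (op ⊤)} (hs : s ∈ 𝒮.deg ⊤ hY d) {m : ℕ}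
    {t t' : Γ(X, nv u d s)}
    (h : (𝒮L.str.app (op (nv u d s))).hom t * fOn u (nv u d s) s ^ m =
      (𝒮L.str.app (op (nv u d s))).hom t' * fOn u (nv u d s) s ^ m) : t = t' := by
  rw [← sub_eq_zero]
  refine TopCat.Sheaf.eq_of_locally_eq' X.sheaf
    (fun W : {W : X.Opens // IsAffineOpen W ∧ W ≤ nv u d s ∧ ∃ e : Γ(L, W), IsFrame L W e} => W.1) (nv u d s)
    (fun W => homOfLE W.2.2.1) ?_ _ _ ?_
  · intro x hx
    obtain ⟨W, hW, e, hxW, hWN, he⟩ := SymInv.exists_affine_frame (L := L) hL x _ hx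
    exact Opens.mem_iSup.mpr ⟨⟨W, hW, hWN, e, he⟩, hxW⟩
  · rintro ⟨W, hW, hWN, e, he⟩
    have h' := congrArg (𝒮L.presheaf.map (homOfLE hWN).op).hom h
    rw [map_mul, map_mul, map_pow, fOn_res u hWN s] at h'
    have nat : ∀ z, (𝒮L.presheaf.map (homOfLE hWN).op).hom ((𝒮L.str.app (op (nv u d s))).hom z) =
        (𝒮L.str.app (op W)).hom ((X.presheaf.map (homOfLE hWN).op).hom z) := fun z =>
      (ConcreteCategory.congr_hom (𝒮L.str.naturality (homOfLE hWN).op) z).symm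
    rw [nat, nat] at h'
    show (X.presheaf.map (homOfLE hWN).op).hom (t - t') = (X.presheaf.map (homOfLE hWN).op).hom 0
    rw [map_zero]
    refine eq_zero_of_mul_pow u hL hj hPL hs hW hWN he (m := m) ?_
    rw [map_sub, map_sub, sub_mul, h', sub_self]

variable {r : ((RelProj.domQ u pL chartL : PL.Opens) : Scheme.{u}) ⟶ P}
  (hr : RelProj.IsProjQMapOn u p chart pL chartL (RelProj.domQ u pL chartL) r)

include hL hj hP hPL hr in
/-- The morphism `X_s ⟶ D₊(s)` induced by `r`, and its ring map. -/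
theorem exists_restrict {d : ℕ} (hd : 0 < d) {s : 𝒮.presheaf.obj (op ⊤)} (hs : s ∈ 𝒮.deg ⊤ hY d) :
    ∃ (T : (nv u d s : Scheme.{u}) ⟶ ((RelProj.domQ u pL chartL : PL.Opens) : Scheme.{u}))
      (g : (nv u d s : Scheme.{u}) ⟶ Spec (CommRingCat.of (Away (𝒮.deg ⊤ hY) s))),
      IsPullback T g r (QMap.aEmb p chart ⊤ hY hd s hs) ∧
      T ≫ (RelProj.domQ u pL chartL).ι ≫ pL = (nv u d s).ι := by
  haveI := SymInv.isIso_relProj hj hL hPL
  have hsub : Set.range ((nv u d s).ι ≫ inv pL).base ⊆ Set.range (RelProj.domQ u pL chartL).ι.base := by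
    rw [Scheme.Opens.range_ι]
    rintro _ ⟨x, rfl⟩
    refine preimage_nv_le_domQ u hL hj hPL hd hs ?_
    show pL.base (((nv u d s).ι ≫ inv pL).base x) ∈ nv u d s
    rw [← Scheme.Hom.comp_apply, Category.assoc, IsIso.inv_hom_id, Category.comp_id]
    exact x.2
  let T := IsOpenImmersion.lift (RelProj.domQ u pL chartL).ι ((nv u d s).ι ≫ inv pL) hsub
  have hT : T ≫ (RelProj.domQ u pL chartL).ι ≫ pL = (nv u d s).ι := by
    rw [IsOpenImmersion.lift_fac_assoc, Category.assoc, IsIso.inv_hom_id, Category.comp_id]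
  haveI : IsOpenImmersion (T ≫ (RelProj.domQ u pL chartL).ι) := by
    rw [IsOpenImmersion.lift_fac]; infer_instance
  haveI : IsOpenImmersion T := IsOpenImmersion.of_comp T (RelProj.domQ u pL chartL).ι
  have hrange : ∀ y, y ∈ Set.range T.base ↔ r.base y ∈ Set.range (QMap.aEmb p chart ⊤ hY hd s hs).base := by
    intro y
    have h1 : r.base y ∈ Set.range (QMap.aEmb p chart ⊤ hY hd s hs).base ↔
        r.base y ∈ (RelProj.emb p chart ⊤ hY) ''ᵁ Proj.basicOpen (𝒮.deg ⊤ hY) s := by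
      rw [← Proj.opensRange_awayι (𝒮.deg ⊤ hY) s hs hd, ← Scheme.Hom.opensRange_comp]
      rfl
    rw [h1, mem_preimage_basicOpen u hL hj hP hPL hr hd hs]
    constructor
    · rintro ⟨x, rfl⟩
      have : (T ≫ (RelProj.domQ u pL chartL).ι ≫ pL).base x = (nv u d s).ι.base x := by rw [hT]
      simp only [Scheme.Hom.comp_apply] at this
      show pL.base ((RelProj.domQ u pL chartL).ι.base (T.base x)) ∈ nv u d s
      rw [this]
      exact x.2
    · intro hy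
      refine ⟨⟨pL.base y.1, hy⟩, ((RelProj.domQ u pL chartL).ι ≫ pL).isOpenEmbedding.injective ?_⟩
      rw [← Scheme.Hom.comp_apply T, hT]
      rfl
  have hTr : Set.range (T ≫ r).base ⊆ Set.range (QMap.aEmb p chart ⊤ hY hd s hs).base := by
    rintro _ ⟨x, rfl⟩
    exact (hrange _).mp ⟨x, rfl⟩
  let g := IsOpenImmersion.lift (QMap.aEmb p chart ⊤ hY hd s hs) (T ≫ r) hTr
  refine ⟨T, g, IsPullback.flip (IsOpenImmersion.isPullback g T _ r ?_ ?_), hT⟩
  · exact (IsOpenImmersion.lift_fac _ _ _).symm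
  · ext y
    exact (hrange y).symm

/-- The ring map of a morphism from an open subscheme to an affine scheme. -/
def toRingMap {A : CommRingCat.{u}} {N : X.Opens} (g : (N : Scheme.{u}) ⟶ Spec A) : A ⟶ Γ(X, N) :=
  (Scheme.ΓSpecIso A).inv ≫ g.appTop ≫ N.topIso.hom

theorem lift_comp_eq_SpecMap {A : CommRingCat.{u}} {N : X.Opens} (g : (N : Scheme.{u}) ⟶ Spec A) {V : X.Opens}
    (hV : IsAffineOpen V) (h : V ≤ N) :
    hV.isoSpec.inv ≫ X.homOfLE h ≫ g = Spec.map (toRingMap g ≫ X.presheaf.map (homOfLE h).op) := by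
  obtain ⟨ψ, hψ⟩ := Spec.map_surjective (hV.isoSpec.inv ≫ X.homOfLE h ≫ g)
  rw [← hψ]
  refine congrArg Spec.map ?_
  have h2 := congrArg Scheme.Hom.appTop hψ
  simp only [Scheme.Hom.comp_appTop, Scheme.homOfLE_appTop, IsAffineOpen.isoSpec_inv_appTop] at h2
  rw [← cancel_mono (Scheme.ΓSpecIso Γ(X, V)).inv, Scheme.ΓSpecIso_inv_naturality, h2, toRingMap]
  simp only [Category.assoc, Scheme.Opens.topIso_hom]
  congr 2
  erw [← X.presheaf.map_comp_assoc, ← X.presheaf.map_comp_assoc]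
  rfl

include hL hj hP hPL hr in
/-- The defining property of the ring map of the restriction. -/
theorem toRingMap_spec {d : ℕ} (hd : 0 < d) {s : 𝒮.presheaf.obj (op ⊤)} (hs : s ∈ 𝒮.deg ⊤ hY d)
    {T : (nv u d s : Scheme.{u}) ⟶ ((RelProj.domQ u pL chartL : PL.Opens) : Scheme.{u})}
    {g : (nv u d s : Scheme.{u}) ⟶ Spec (CommRingCat.of (Away (𝒮.deg ⊤ hY) s))}
    (hg : T ≫ r = g ≫ QMap.aEmb p chart ⊤ hY hd s hs)
    (hT : T ≫ (RelProj.domQ u pL chartL).ι ≫ pL = (nv u d s).ι)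
    (m : ℕ) (s' : 𝒮.presheaf.obj (op ⊤)) (hs' : s' ∈ 𝒮.deg ⊤ hY (m • d)) :
    (𝒮L.str.app (op (nv u d s))).hom ((toRingMap g).hom (Away.mk (𝒮.deg ⊤ hY) hs m s' hs')) *
      fOn u (nv u d s) s ^ m = fOn u (nv u d s) s' := by
  haveI := SymInv.isIso_relProj hj hL hPL
  refine eq_of_eq_on_frames hL _ _ _ fun V hV hVN e he => ?_
  rw [map_mul, map_pow, fOn_res, fOn_res,
    ← ConcreteCategory.comp_apply, ← 𝒮L.str.naturality (homOfLE hVN).op, ConcreteCategory.comp_apply]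
  set z := Away.mk (𝒮.deg ⊤ hY) hs m s' hs'
  set a := (X.presheaf.map (homOfLE hVN).op).hom ((toRingMap g).hom z) with ha
  show (𝒮L.str.app (op V)).hom a * fOn u V s ^ m = fOn u V s'
  have hle : V ≤ q ⁻¹ᵁ (⊤ : Y.Opens) := le_top.trans (Scheme.Hom.preimage_top q).ge
  let ψ := u.gradedAt ⊤ hY V hV hle
  let β : Γ(X, V) ⟶ CommRingCat.of (Away (𝒮L.deg V hV) (ψ s)) :=
    𝒮L.strZero V hV ≫ CommRingCat.ofHom (fromZeroRingHom (𝒮L.deg V hV) (Submonoid.powers (ψ s)))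
  have h1 : RelProj.awayEmb u pL chartL ⊤ hY V hV hle hd s hs ≫ pL = Spec.map β ≫ hV.fromSpec := by
    have hl : (chartL V hV).inv ≫ (pL ⁻¹ᵁ V).ι ≫ pL =
        Proj.toSpecZero (𝒮L.deg V hV) ≫ Spec.map (𝒮L.strZero V hV) ≫ hV.fromSpec :=
      (RP.chart_ι_comp hPL V hV).trans (RP.projBase_ι 𝒮L V hV)
    simp only [RelProj.awayEmb, RelProj.emb, Category.assoc, hl, Proj.awayι_toSpecZero_assoc, β, Spec.map_comp]
  have h2 : IsOpenImmersion.lift (RelProj.domQ u pL chartL).ι (RelProj.awayEmb u pL chartL ⊤ hY V hV hle hd s hs)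
      (RelProj.range_awayEmb_subset_domQ u pL chartL ⊤ hY V hV hle hd s hs) =
      (Spec.map β ≫ hV.isoSpec.inv ≫ X.homOfLE hVN) ≫ T := by
    rw [← cancel_mono ((RelProj.domQ u pL chartL).ι ≫ pL), IsOpenImmersion.lift_fac_assoc, h1]
    simp only [Category.assoc, hT, Scheme.homOfLE_ι, IsAffineOpen.isoSpec_inv_ι]
  have h3 : Spec.map (toRingMap g ≫ X.presheaf.map (homOfLE hVN).op ≫ β) =
      Spec.map (CommRingCat.ofHom (Away.map ψ s)) := by
    rw [← cancel_mono (QMap.aEmb p chart ⊤ hY hd s hs)]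
    refine Eq.trans ?_ (hr ⊤ hY V hV hle d hd s hs
      (RelProj.range_awayEmb_subset_domQ u pL chartL ⊤ hY V hV hle hd s hs))
    rw [h2, ← Category.assoc (toRingMap g), Spec.map_comp, ← lift_comp_eq_SpecMap g hV hVN]
    simp only [Category.assoc, hg]
  have h4 : β.hom a = Away.map ψ s z := ConcreteCategory.congr_hom (Spec.map_injective h3) z
  have h5 := congrArg HomogeneousLocalization.val h4
  simp only [β, CommRingCat.hom_comp, RingHom.comp_apply, CommRingCat.hom_ofHom, PConeImm.fromZero_val, z,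
    Away.map_mk, Away.val_mk] at h5
  rw [Localization.mk_eq_mk', IsLocalization.eq_mk'_iff_mul_eq, IsLocalization.mk'_one, ← map_mul,
    IsLocalization.eq_iff_exists (Submonoid.powers (ψ s))] at h5
  obtain ⟨⟨_, k, rfl⟩, hk⟩ := h5
  change fOn u V s ^ k * ((𝒮L.str.app (op V)).hom a * fOn u V s ^ m) = fOn u V s ^ k * fOn u V s' at hk
  obtain ⟨c', hc'⟩ := exists_coeff hj hV he (show fOn u V s' ∈ 𝒮L.deg V hV (m • d) from ψ.2 hs')
  obtain ⟨c, hcu, hc⟩ := exists_unit_coeff u hL hj hPL hs hV hVN he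
  rw [hc, hc'] at hk ⊢
  have key : a * c ^ m = c' := by
    refine (hcu.pow k).mul_left_cancel (sub_eq_zero.mp (SymInv.coeff_eq_zero hj hV he (d * k + d * m) ?_))
    rw [map_sub, map_mul, map_mul, map_mul, map_pow, map_pow, sub_mul, sub_eq_zero]
    rw [mul_pow, mul_pow, smul_eq_mul, mul_comm m d] at hk
    simp only [← pow_mul] at hk
    linear_combination hk
  rw [mul_pow, ← pow_mul, smul_eq_mul, mul_comm m d, ← key, map_mul, map_pow, mul_assoc]

end Groth.L18.LPsi
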