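import Groth.Agent.L18.SymInvertible
import Groth.Agent.L18.QMap.Props

/-!
# Points of `Proj` of the symmetric algebra of an invertible module; non-vanishing loci
-/

set_option autoImplicit false

noncomputable section

universe u

open CategoryTheory CategoryTheory.Limits AlgebraicGeometry TopologicalSpace Opposite HomogeneousLocalization
open Groth.L18

namespace Groth.L18.LPsi

open Groth.L18.Frame (rs ro IsFrame)

variable {X PL : Scheme.{u}} {𝒯 : RelProj.QCGrAlg X} {pL : PL ⟶ X}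
  {chartL : ∀ (U : X.Opens) (hU : IsAffineOpen U), (((pL ⁻¹ᵁ U : PL.Opens) : Scheme.{u}) ≅ Proj (𝒯.deg U hU))}
  (hPL : RelProj.IsRelProj 𝒯 pL chartL)

include hPL in
/-- The structure map on points: a function is invertible at the base point iff it avoids the point. -/
theorem mem_basicOpen_iff {U : X.Opens} (hU : IsAffineOpen U) (c : Γ(X, U)) (v : Proj (𝒯.deg U hU)) :
    pL.base ((RelProj.emb pL chartL U hU).base v) ∈ X.basicOpen c ↔
      (𝒯.str.app (op U)).hom c ∉ v.asHomogeneousIdeal := by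
  have h : pL.base ((RelProj.emb pL chartL U hU).base v) =
      (Proj.toSpecZero (𝒯.deg U hU) ≫ Spec.map (𝒯.strZero U hU) ≫ hU.fromSpec).base v := by
    rw [← Scheme.Hom.comp_apply, ← RP.projBase_ι 𝒯 U hU, ← RP.chart_ι_comp hPL U hU, RelProj.emb, Category.assoc]
  rw [h]
  refine Iff.trans (Iff.trans Iff.rfl (SetLike.ext_iff.mp (hU.fromSpec_preimage_basicOpen c)
    ((Spec.map (𝒯.strZero U hU)).base ((Proj.toSpecZero (𝒯.deg U hU)).base v)))) ?_
  obtain ⟨d, hd, s, hs, hsv⟩ := (PConeImm.exists_homogeneous_not_mem (𝒜 := 𝒯.deg U hU)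
    (p := v.asHomogeneousIdeal.toIdeal)).mp (Set.not_subset.mp v.not_irrelevant_le)
  obtain ⟨q, hq⟩ := (Proj.opensRange_awayι (𝒯.deg U hU) s hs hd).ge (show v ∈ Proj.basicOpen (𝒯.deg U hU) s from hsv)
  have hcs : (𝒯.str.app (op U)).hom c * s ∈ 𝒯.deg U hU d := by
    simpa using SetLike.mul_mem_graded (𝒯.str_mem U hU c) hs
  have h2 : (𝒯.str.app (op U)).hom c ∉ v.asHomogeneousIdeal ↔ (𝒯.str.app (op U)).hom c * s ∉ v.asHomogeneousIdeal :=
    not_congr ⟨fun h => Ideal.mul_mem_right _ _ h, fun h => (v.isPrime.mem_or_mem h).resolve_right hsv⟩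
  have h3 : (Proj.toSpecZero (𝒯.deg U hU)).base v =
      (Spec.map (CommRingCat.ofHom (fromZeroRingHom (𝒯.deg U hU) (Submonoid.powers s)))).base q := by
    rw [← hq, ← Scheme.Hom.comp_apply, Proj.awayι_toSpecZero]
  rw [h2, h3]
  subst hq
  refine Iff.trans ?_ (SetLike.ext_iff.mp (Proj.awayι_preimage_basicOpen (𝒯.deg U hU) hs hd hcs hd) q).symm
  show ¬ fromZeroRingHom (𝒯.deg U hU) (Submonoid.powers s) ((𝒯.strZero U hU).hom c) ∈ q.asIdeal ↔
    ¬ Away.isLocalizationElem hs hcs ∈ q.asIdeal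
  rw [show Away.isLocalizationElem hs hcs =
    fromZeroRingHom (𝒯.deg U hU) (Submonoid.powers s) ((𝒯.strZero U hU).hom c) ^ d from ?_, q.isPrime.pow_mem_iff_mem _ hd]
  refine val_injective _ ?_
  simp only [Away.isLocalizationElem, val_pow, PConeImm.fromZero_val, Away.val_mk]
  rw [Localization.mk_eq_mk', IsLocalization.mk'_eq_iff_eq_mul, IsLocalization.mk'_one, ← map_pow, ← map_mul,
    mul_pow]
  rfl

/-- The locus where a family of degree-`n` elements generates. -/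
def locus (n : ℕ) (t : ∀ V : X.affineOpens, 𝒯.presheaf.obj (op (V.1 : X.Opens))) : X.Opens :=
  ⨆ V : {V : X.affineOpens //
      ((𝒯.deg V.1 V.2 n : AddSubgroup (𝒯.presheaf.obj (op (V.1 : X.Opens)))) : Set (𝒯.presheaf.obj (op (V.1 : X.Opens)))) ⊆
        (Ideal.span {t V} : Set (𝒯.presheaf.obj (op (V.1 : X.Opens))))},
    (V.1.1 : X.Opens)

variable {L : X.Modules} [Coh.IsQCoh L] {j : L ⟶ 𝒯.toModule} (hL : PicF.IsInvertible L)
  (hj : RelProj.IsGrSymAlg L 𝒯 j)

omit [Coh.IsQCoh L] in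
theorem res_gen {U V : X.Opens} (h : V ≤ U) (e : Γ(L, U)) :
    (𝒯.presheaf.map (homOfLE h).op).hom (SymInv.gen j e) = SymInv.gen j (rs L h e) :=
  (ConcreteCategory.congr_hom (j.mapPresheaf.naturality (homOfLE h).op) e).symm

include hj in
/-- Degree-`n` elements are a coefficient times the power of the frame. -/
theorem exists_coeff {U : X.Opens} (hU : IsAffineOpen U) {e : Γ(L, U)} (he : IsFrame L U e) {n : ℕ}
    {t : 𝒯.presheaf.obj (op U)} (ht : t ∈ 𝒯.deg U hU n) :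
    ∃ c : Γ(X, U), t = (𝒯.str.app (op U)).hom c * SymInv.gen j e ^ n :=
  (SymInv.mem_deg_iff hj hU he n t).mp ht

include hj in
theorem coeff_isUnit {U : X.Opens} (hU : IsAffineOpen U) {e : Γ(L, U)} (he : IsFrame L U e) {n : ℕ} {c : Γ(X, U)}
    (h : SymInv.gen j e ^ n ∈ Ideal.span {(𝒯.str.app (op U)).hom c * SymInv.gen j e ^ n}) : IsUnit c := by
  obtain ⟨a, ha⟩ := Ideal.mem_span_singleton'.mp h
  classical
  have ha0 := congrArg (fun x => (DirectSum.decompose (𝒯.deg U hU) x n : 𝒯.presheaf.obj (op U))) ha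
  simp only at ha0
  rw [DirectSum.coe_decompose_mul_of_right_mem_of_le (𝒯.deg U hU)
      ((SymInv.mem_deg_iff hj hU he n _).mpr ⟨c, rfl⟩) le_rfl, Nat.sub_self,
    DirectSum.decompose_of_mem_same _ (show SymInv.gen j e ^ n ∈ 𝒯.deg U hU n from
      (SymInv.mem_deg_iff hj hU he n _).mpr ⟨1, by simp⟩)] at ha0
  obtain ⟨d, hd⟩ := (SymInv.mem_deg_iff hj hU he 0 _).mp (SetLike.coe_mem (DirectSum.decompose (𝒯.deg U hU) a 0))
  rw [hd, pow_zero, mul_one, ← mul_assoc, ← map_mul] at ha0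
  refine IsUnit.of_mul_eq_one d (sub_eq_zero.mp (SymInv.coeff_eq_zero hj hU he n
    (r := c * d - 1) ?_))
  rw [map_sub, map_one, sub_mul, one_mul, mul_comm c d, ha0, sub_self]

variable (hPL' : RelProj.IsRelProj 𝒯 pL chartL)

include hj hPL in
/-- An element avoids the point iff its coefficient is invertible there. -/
theorem not_mem_iff_coeff {U : X.Opens} (hU : IsAffineOpen U) {e : Γ(L, U)} (he : IsFrame L U e) {n : ℕ}
    {t : 𝒯.presheaf.obj (op U)} {c : Γ(X, U)} (ht : t = (𝒯.str.app (op U)).hom c * SymInv.gen j e ^ n)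
    (v : Proj (𝒯.deg U hU)) :
    t ∉ v.asHomogeneousIdeal ↔ pL.base ((RelProj.emb pL chartL U hU).base v) ∈ X.basicOpen c := by
  rw [mem_basicOpen_iff hPL hU c v, ht]
  refine not_congr ⟨fun h => ?_, fun h => Ideal.mul_mem_right _ _ h⟩
  exact (v.isPrime.mem_or_mem h).resolve_right fun h' => SymInv.not_mem hj hU he v (v.isPrime.mem_of_pow_mem _ h')

include hj hL hPL in
/-- Membership in the non-vanishing locus. -/
theorem mem_locus_iff {n : ℕ} (t : ∀ V : X.affineOpens, 𝒯.presheaf.obj (op (V.1 : X.Opens)))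
    (ht : ∀ V : X.affineOpens, t V ∈ 𝒯.deg V.1 V.2 n)
    (hres : ∀ (U V : X.affineOpens) (h : (V.1 : X.Opens) ≤ U.1), (𝒯.presheaf.map (homOfLE h).op).hom (t U) = t V)
    {V : X.Opens} (hV : IsAffineOpen V) (v : Proj (𝒯.deg V hV)) :
    pL.base ((RelProj.emb pL chartL V hV).base v) ∈ locus n t ↔ t ⟨V, hV⟩ ∉ v.asHomogeneousIdeal := by
  have hxV : pL.base ((RelProj.emb pL chartL V hV).base v) ∈ V := QMap.π_emb_mem V hV v
  constructor
  · intro hx
    obtain ⟨⟨⟨V', hV'⟩, hsub⟩, hx'⟩ := Opens.mem_iSup.mp hx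
    obtain ⟨W, hW, e, hxW, hWle, he⟩ := SymInv.exists_affine_frame (L := L) hL _ (V ⊓ V') ⟨hxV, hx'⟩
    obtain ⟨w, hw⟩ := QMap.exists_point (chart := chartL) W hW _ hxW
    obtain ⟨a, ha, hxa⟩ := hV'.exists_basicOpen_le ⟨_, show pL.base _ ∈ W from hxW⟩ hx'
    have hWa : IsAffineOpen (X.basicOpen a) := hV'.basicOpen a
    have hea : IsFrame L (X.basicOpen a) (rs L ha e) := he.mono ha
    obtain ⟨z, hz⟩ := QMap.exists_point (chart := chartL) (X.basicOpen a) hWa _ hxa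
    have hiV : X.basicOpen a ≤ V := fun y hy => (hWle (ha hy)).1
    intro hmem
    have h1 : t ⟨X.basicOpen a, hWa⟩ ∈ z.asHomogeneousIdeal := by
      rw [← hres ⟨V, hV⟩ ⟨X.basicOpen a, hWa⟩ hiV]
      exact (QMap.point_compat hPL hV hWa hiV hz.symm _).mpr hmem
    -- the generator comes from `V'` up to a unit
    letI := (𝒯.presheaf.map (homOfLE (X.basicOpen_le a)).op).hom.toAlgebra
    haveI := 𝒯.isQC V' hV' a
    obtain ⟨⟨y, ⟨_, k, rfl⟩⟩, hy⟩ := IsLocalization.surj (Submonoid.powers ((𝒯.str.app (op V')).hom a))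
      (show 𝒯.presheaf.obj (op (X.basicOpen a)) from SymInv.gen j (rs L ha e) ^ n)
    classical
    let ρ := 𝒯.res hV' hWa (X.basicOpen_le a)
    have hstr : ρ (((𝒯.str.app (op V')).hom a) ^ k) ∈ 𝒯.deg (X.basicOpen a) hWa 0 := by
      have := SetLike.pow_mem_graded k (ρ.2 (𝒯.str_mem V' hV' a))
      rw [smul_zero] at this
      rwa [map_pow]
    have hgn : SymInv.gen j (rs L ha e) ^ n ∈ 𝒯.deg (X.basicOpen a) hWa n :=
      (SymInv.mem_deg_iff hj hWa hea n _).mpr ⟨1, by simp⟩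
    have hprod : SymInv.gen j (rs L ha e) ^ n * ρ (((𝒯.str.app (op V')).hom a) ^ k) ∈ 𝒯.deg (X.basicOpen a) hWa n := by
      simpa using SetLike.mul_mem_graded hgn hstr
    have hyn : SymInv.gen j (rs L ha e) ^ n * ρ (((𝒯.str.app (op V')).hom a) ^ k) =
        ρ (DirectSum.decompose (𝒯.deg V' hV') y n) := by
      rw [ρ.map_directSumDecompose, show ρ y = SymInv.gen j (rs L ha e) ^ n * ρ (((𝒯.str.app (op V')).hom a) ^ k) from
        hy.symm, DirectSum.decompose_of_mem_same _ hprod]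
    have hin : ρ (DirectSum.decompose (𝒯.deg V' hV') y n : 𝒯.presheaf.obj (op V')) ∈
        Ideal.span {t ⟨X.basicOpen a, hWa⟩} := by
      rw [← hres ⟨V', hV'⟩ ⟨X.basicOpen a, hWa⟩ (X.basicOpen_le a)]
      obtain ⟨b, hb⟩ := Ideal.mem_span_singleton'.mp (hsub (SetLike.coe_mem (DirectSum.decompose (𝒯.deg V' hV') y n)))
      exact Ideal.mem_span_singleton'.mpr ⟨ρ b, by rw [← hb, map_mul]; rfl⟩
    have hz1 : SymInv.gen j (rs L ha e) ^ n * ρ (((𝒯.str.app (op V')).hom a) ^ k) ∈ z.asHomogeneousIdeal.toIdeal := by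
      rw [hyn]
      exact (Ideal.span_le.mpr (Set.singleton_subset_iff.mpr h1)) hin
    rcases z.isPrime.mem_or_mem hz1 with h | h
    · exact SymInv.not_mem hj hWa hea z (z.isPrime.mem_of_pow_mem _ h)
    · obtain ⟨q, hq⟩ : IsUnit (ρ (((𝒯.str.app (op V')).hom a) ^ k)) :=
        IsLocalization.map_units (𝒯.presheaf.obj (op (X.basicOpen a)))
          (⟨_, k, rfl⟩ : Submonoid.powers ((𝒯.str.app (op V')).hom a))
      exact z.isPrime.ne_top (Ideal.eq_top_of_isUnit_mem _ h ⟨q, hq⟩)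
  · intro hnot
    obtain ⟨W, hW, e, hxW, hWle, he⟩ := SymInv.exists_affine_frame (L := L) hL _ V hxV
    obtain ⟨w, hw⟩ := QMap.exists_point (chart := chartL) W hW _ hxW
    obtain ⟨c, hc⟩ := exists_coeff hj hW he (ht ⟨W, hW⟩)
    have hxc : pL.base ((RelProj.emb pL chartL V hV).base v) ∈ X.basicOpen c := by
      rw [← hw]
      refine (not_mem_iff_coeff hPL hj hW he hc w).mp fun h => hnot ?_
      rw [← hres ⟨V, hV⟩ ⟨W, hW⟩ hWle] at h
      exact (QMap.point_compat hPL hV hW hWle hw.symm _).mp h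
    refine Opens.mem_iSup.mpr ⟨⟨⟨X.basicOpen c, hW.basicOpen c⟩, fun y hy => ?_⟩, hxc⟩
    obtain ⟨d, rfl⟩ := exists_coeff hj (hW.basicOpen c) (he.mono (X.basicOpen_le c)) hy
    have hu : IsUnit ((𝒯.str.app (op (X.basicOpen c))).hom ((X.presheaf.map (homOfLE (X.basicOpen_le c)).op).hom c)) :=
      (X.toLocallyRingedSpace.toRingedSpace.isUnit_res_basicOpen c).map _
    obtain ⟨q, hq⟩ := hu
    have ht' : t ⟨X.basicOpen c, hW.basicOpen c⟩ =
        (q : 𝒯.presheaf.obj (op (X.basicOpen c))) * SymInv.gen j (rs L (X.basicOpen_le c) e) ^ n := by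
      rw [← hres ⟨W, hW⟩ ⟨X.basicOpen c, hW.basicOpen c⟩ (X.basicOpen_le c), hc, map_mul, map_pow, res_gen, hq]
      refine congrArg (· * _) ?_
      exact (ConcreteCategory.congr_hom (𝒯.str.naturality (homOfLE (X.basicOpen_le c)).op) c).symm
    refine Ideal.mem_span_singleton'.mpr
      ⟨(𝒯.str.app (op (X.basicOpen c))).hom d * (↑q⁻¹ : 𝒯.presheaf.obj (op (X.basicOpen c))), ?_⟩
    rw [ht', mul_assoc, Units.inv_mul_cancel_left]

end Groth.L18.LPsi
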